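import Cfsg.Agent.Lib.Perm.TwoPointFive.Arith

/-!
The even degree order equation of a doubly transitive group with two-point stabiliser `A₄`.
-/

set_option autoImplicit false

namespace CfsgLib.Perm.TwoPointFour

open CfsgLib.Perm.TwoPointFive

theorem square_cases : ∀ i < 8, ∀ g < 10, ∀ e ∈ [1, 3, 4, 6],
    1 ≤ i → g ∣ 2 ^ i + 1 →
    ((e : ℕ) : ℤ) * ((2 ^ i : ℕ) : ℤ) ^ 2 + 3 =
      (4 * (((2 ^ i : ℕ) : ℤ) + 1) - (g : ℕ)) * (2 * (((2 ^ i : ℕ) : ℤ) + 1) - (g : ℕ)) →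
    e = 6 ∧ i = 1 := by
  decide +kernel

theorem triangle_cases : ∀ i < 11, ∀ g < 19, ∀ e ∈ [1, 3, 4, 6],
    1 ≤ i → g ∣ 2 * 2 ^ i + 1 →
    ((e : ℕ) : ℤ) * (((2 ^ i : ℕ) : ℤ) * (2 * ((2 ^ i : ℕ) : ℤ) - 1)) + 3 =
      (4 * (2 * ((2 ^ i : ℕ) : ℤ) + 1) - (g : ℕ)) * (2 * (2 * ((2 ^ i : ℕ) : ℤ) + 1) - (g : ℕ)) →
    False := by
  decide +kernel

/-- `m = k²` with `ε = 1`. -/
theorem even_square {e i r : ℕ} (he : e = 1 ∨ e = 3 ∨ e = 4 ∨ e = 6) (hi : 1 ≤ i) (hr : 1 ≤ r)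
    (heq : (r : ℤ) ^ 2 * (e * ((2 ^ i : ℕ) : ℤ) ^ 2 + 3) =
      (4 * (r : ℤ) - 1) * (2 * r - 1) * (((2 ^ i : ℕ) : ℤ) + 1) ^ 2) : e = 6 ∧ i = 1 := by
  obtain ⟨g, hg, hgρ, hT⟩ := cofactor (ρ := 2 ^ i + 1) hr (Nat.le_add_left 1 _)
    (by rw [Nat.cast_add, Nat.cast_one]; exact heq)
  have hK1 : 1 ≤ 2 ^ i := Nat.one_le_two_pow
  set K := 2 ^ i with hK
  rw [Nat.cast_add, Nat.cast_one] at hT
  set ρ : ℤ := (K : ℤ) + 1 with hρ
  have hmain : ρ * (8 * ρ - 6 * g - e * ρ + 2 * e) = (e : ℤ) + 3 - g * g := by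
    rw [hρ] at hT ⊢
    linear_combination -hT
  have hge : g ≤ e + 3 := by
    obtain ⟨c, hc⟩ : (g : ℤ) ∣ ρ := by
      rw [hρ]; exact_mod_cast Int.natCast_dvd_natCast.2 hgρ
    refine Nat.le_of_dvd (by omega)
      (Int.natCast_dvd_natCast.1 ⟨c * (8 * ρ - 6 * g - e * ρ + 2 * e) + g, ?_⟩)
    push_cast
    linear_combination (8 * ρ - 6 * g - e * ρ + 2 * e) * hc - hmain
  have hg9 : g ≤ 9 := by omega
  have hbound : ρ ≤ 200 := by
    rcases eq_or_ne ((e : ℤ) + 3 - g * g) 0 with h | h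
    · rw [h] at hmain
      have hρ0 : ρ ≠ 0 := by omega
      have h2 : 8 * ρ - 6 * g - e * ρ + 2 * e = 0 := (mul_eq_zero.1 hmain).resolve_left hρ0
      rcases he with rfl | rfl | rfl | rfl <;> push_cast at h2 ⊢ <;> omega
    · have h1 : ρ ∣ (e : ℤ) + 3 - g * g := ⟨_, hmain.symm⟩
      have h2 := Int.natAbs_le_of_dvd_ne_zero h1 h
      have h5 := mul_self_nonneg (g : ℤ)
      have h4 : ((g : ℤ) * g) ≤ 81 := by exact_mod_cast Nat.mul_le_mul hg9 hg9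
      omega
  have hi' : i < 8 := lt_of_two_pow_le (B := 199) (by omega) (by norm_num)
  refine square_cases i hi' g (by omega) e (by rcases he with rfl | rfl | rfl | rfl <;> simp) hi hgρ ?_
  rw [← hK]
  exact hT

/-- `m = k(2k - 1)` with `ε = 1`. -/
theorem even_triangle {e i r : ℕ} (he : e = 1 ∨ e = 3 ∨ e = 4 ∨ e = 6) (hi : 1 ≤ i) (hr : 1 ≤ r)
    (heq : (r : ℤ) ^ 2 * (e * (((2 ^ i : ℕ) : ℤ) * (2 * ((2 ^ i : ℕ) : ℤ) - 1)) + 3) =
      (4 * (r : ℤ) - 1) * (2 * r - 1) * (2 * ((2 ^ i : ℕ) : ℤ) + 1) ^ 2) : False := by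
  obtain ⟨g, hg, hgρ, hT⟩ := cofactor (ρ := 2 * 2 ^ i + 1) hr (Nat.le_add_left 1 _)
    (by rw [Nat.cast_add, Nat.cast_mul, Nat.cast_one, Nat.cast_ofNat]; exact heq)
  have hK1 : 1 ≤ 2 ^ i := Nat.one_le_two_pow
  set K := 2 ^ i with hK
  rw [Nat.cast_add, Nat.cast_mul, Nat.cast_one, Nat.cast_ofNat] at hT
  set ρ : ℤ := 2 * (K : ℤ) + 1 with hρ
  have hmain : ρ * (16 * ρ - 12 * g - e * ρ + 3 * e) = 2 * (e : ℤ) + 6 - 2 * (g * g) := by
    rw [hρ] at hT ⊢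
    linear_combination -2 * hT
  have hge : g ≤ 2 * e + 6 := by
    obtain ⟨c, hc⟩ : (g : ℤ) ∣ ρ := by
      rw [hρ]; exact_mod_cast Int.natCast_dvd_natCast.2 hgρ
    refine Nat.le_of_dvd (by omega)
      (Int.natCast_dvd_natCast.1 ⟨c * (16 * ρ - 12 * g - e * ρ + 3 * e) + 2 * g, ?_⟩)
    push_cast
    linear_combination (16 * ρ - 12 * g - e * ρ + 3 * e) * hc - hmain
  have hg18 : g ≤ 18 := by omega
  have hbound : ρ ≤ 1000 := by
    rcases eq_or_ne (2 * (e : ℤ) + 6 - 2 * (g * g)) 0 with h | h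
    · rw [h] at hmain
      have hρ0 : ρ ≠ 0 := by omega
      have h2 : 16 * ρ - 12 * g - e * ρ + 3 * e = 0 := (mul_eq_zero.1 hmain).resolve_left hρ0
      rcases he with rfl | rfl | rfl | rfl <;> push_cast at h h2 ⊢ <;> omega
    · have h1 : ρ ∣ 2 * (e : ℤ) + 6 - 2 * (g * g) := ⟨_, hmain.symm⟩
      have h2 := Int.natAbs_le_of_dvd_ne_zero h1 h
      have h5 := mul_self_nonneg (g : ℤ)
      have h4 : ((g : ℤ) * g) ≤ 324 := by exact_mod_cast Nat.mul_le_mul hg18 hg18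
      omega
  have hi' : i < 11 := lt_of_two_pow_le (B := 500) (by omega) (by norm_num)
  refine triangle_cases i hi' g (by omega) e (by rcases he with rfl | rfl | rfl | rfl <;> simp) hi hgρ ?_
  rw [← hK]
  exact hT

theorem root_nine : NoRoot 8 9 19 := by decide +kernel
theorem root_eleven : NoRoot 8 11 8 := by decide +kernel

/-- The even-degree equation: three small solutions. -/
theorem even_arith {a b c ε : ℤ} (D : KleinDeg a b c ε) {e k m i : ℕ}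
    (he : e = 1 ∨ e = 3 ∨ e = 4 ∨ e = 6) (hi : 1 ≤ i) (hk : k = 2 ^ i)
    (hm : m = k ∨ m = k * k ∨ m = k * (2 * k - 1))
    (h : ((e * m + 3 : ℕ) : ℤ) * ((a + 1) * (b + ε) * (c - 1)) * ((k : ℤ) - 1) ^ 2 =
      8 * ((m : ℤ) - 1) ^ 2 * (a * b * c)) :
    (e = 6 ∧ k = 2 ∧ m = 2) ∨ (e = 3 ∧ k = 4 ∧ m = 4) ∨ (e = 6 ∧ k = 2 ∧ m = 4) := by
  have hk2 : 2 ≤ k := hk ▸ Nat.le_self_pow (by omega) 2
  have hk1 : (k : ℤ) - 1 ≠ 0 := by omega
  obtain ⟨ρ, hρ, hcase⟩ : ∃ ρ : ℕ, (m : ℤ) - 1 = ρ * ((k : ℤ) - 1) ∧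
      ((ρ = 1 ∧ m = k) ∨ (ρ = k + 1 ∧ m = k * k) ∨ (ρ = 2 * k + 1 ∧ m = k * (2 * k - 1))) := by
    rcases hm with rfl | rfl | rfl
    · exact ⟨1, by ring, Or.inl ⟨rfl, rfl⟩⟩
    · exact ⟨k + 1, by push_cast; ring, Or.inr (Or.inl ⟨rfl, rfl⟩)⟩
    · refine ⟨2 * k + 1, ?_, Or.inr (Or.inr ⟨rfl, rfl⟩)⟩
      rw [Nat.cast_mul, Nat.cast_sub (by omega : 1 ≤ 2 * k)]
      push_cast; ring
  rw [hρ] at h
  have h' : ((e * m + 3 : ℕ) : ℤ) * ((a + 1) * (b + ε) * (c - 1)) =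
      8 * (ρ : ℤ) ^ 2 * (a * b * c) :=
    mul_right_cancel₀ (pow_ne_zero 2 hk1) (h.trans (by ring))
  rcases D.sgn with rfl | rfl
  · -- `ε = 1`
    have hab := D.pair rfl
    subst hab
    have hc : c = 2 * a + 1 := by linarith [D.rel]
    subst hc
    obtain ⟨j, hj⟩ := D.modA
    have ha := D.posa
    obtain ⟨r, hr⟩ : ∃ r : ℕ, (r : ℤ) = 2 * j + 1 := ⟨(2 * j + 1).toNat, Int.toNat_of_nonneg (by omega)⟩
    have hr1 : 1 ≤ r := by omega
    have ha2 : a = 2 * (r : ℤ) - 1 := by omega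
    subst ha2
    have h2 : (r : ℤ) ^ 2 * ((e * m + 3 : ℕ) : ℤ) =
        (4 * (r : ℤ) - 1) * (2 * r - 1) * (ρ : ℤ) ^ 2 := by
      have ha0 : 8 * (2 * (r : ℤ) - 1) ≠ 0 := by omega
      exact mul_left_cancel₀ ha0 (by linear_combination h')
    rcases hcase with ⟨rfl, rfl⟩ | ⟨rfl, rfl⟩ | ⟨rfl, rfl⟩
    · exfalso
      obtain ⟨g, hg, hgρ, hT⟩ := cofactor (ρ := 1) hr1 le_rfl h2
      obtain rfl : g = 1 := Nat.dvd_one.1 hgρ
      push_cast at hT
      have : 0 < (e : ℤ) * m := by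
        have : 1 ≤ e := by omega
        positivity
      linarith
    · subst hk
      obtain ⟨rfl, rfl⟩ := even_square he hi hr1 (by push_cast at h2 ⊢; linear_combination h2)
      exact Or.inr (Or.inr ⟨rfl, rfl, rfl⟩)
    · subst hk
      refine (even_triangle he hi hr1 ?_).elim
      rw [Nat.cast_add, Nat.cast_mul, Nat.cast_mul, Nat.cast_sub (by omega : 1 ≤ 2 * 2 ^ i)] at h2
      push_cast at h2 ⊢
      linear_combination h2
  · -- `ε = -1`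
    have hA : a = b + c - 1 := by linarith [D.rel]
    subst hA
    have hb3 : 3 ≤ b ∧ b % 4 = 3 := by have := D.modB; have := D.posb; omega
    have hc3 : 3 ≤ c ∧ c % 4 = 3 := by have := D.modC; have := D.posc; omega
    have h'' : ((e * m + 3 : ℕ) : ℤ) * ((b + c) * (b - 1) * (c - 1)) =
        8 * (ρ : ℤ) ^ 2 * ((b + c - 1) * b * c) := by linear_combination h'
    have hlt := ratio_lt hb3.1 hc3.1
    have hge := ratio_ge hb3.1 hc3.1
    have hden0 : 0 < (b + c - 1) * b * c :=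
      mul_pos (mul_pos (by omega) (by omega)) (by omega)
    have hnum0 : 0 < (b + c) * (b - 1) * (c - 1) :=
      mul_pos (mul_pos (by omega) (by omega)) (by omega)
    have he6 : e ≤ 6 := by omega
    rcases hcase with ⟨rfl, rfl⟩ | ⟨rfl, rfl⟩ | ⟨rfl, rfl⟩
    · -- `m = k`
      push_cast at h''
      have hup : e * m + 3 ≤ 15 := by
        by_contra hc
        have : (16 : ℤ) ≤ (e : ℤ) * m + 3 := by exact_mod_cast (by omega : 16 ≤ e * m + 3)
        linarith [mul_le_mul_of_nonneg_right this hnum0.le]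
      have hlow : 9 ≤ e * m + 3 := by
        by_contra hc
        have : (e : ℤ) * m + 3 ≤ 8 := by exact_mod_cast (by omega : e * m + 3 ≤ 8)
        linarith [mul_le_mul_of_nonneg_right this hnum0.le]
      subst hk
      have hi4 : i < 4 := lt_of_two_pow_le (B := 12)
        ((Nat.le_mul_of_pos_left _ (by omega : 0 < e)).trans (by omega)) (by norm_num)
      interval_cases i <;> rcases he with rfl | rfl | rfl | rfl <;> (try norm_num at hup) <;>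
        (try norm_num at hlow) <;> (try norm_num at h'') <;> (try norm_num) <;>
        first
        | exact (@no_root 8 9 19 (by norm_num) root_nine b c hb3.1 hc3.1 hb3.2 hc3.2
            (by push_cast; linarith)).elim
        | exact (@no_root 8 11 8 (by norm_num) root_eleven b c hb3.1 hc3.1 hb3.2 hc3.2
            (by push_cast; linarith)).elim
    · exfalso
      push_cast at h''
      have hk2' : (2 : ℤ) ≤ k := by exact_mod_cast hk2
      have hT : (e : ℤ) * (k * k) + 3 < 8 * ((k : ℤ) + 1) ^ 2 := by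
        linarith [mul_le_mul_of_nonneg_right (show (e : ℤ) ≤ 6 by exact_mod_cast he6) (sq_nonneg (k : ℤ)),
          sq_nonneg (k : ℤ)]
      linarith [mul_lt_mul_of_pos_right hT hnum0,
        mul_le_mul_of_nonneg_left hlt.le (by positivity : (0 : ℤ) ≤ 8 * ((k : ℤ) + 1) ^ 2)]
    · exfalso
      rw [Nat.cast_add, Nat.cast_mul, Nat.cast_mul, Nat.cast_sub (by omega : 1 ≤ 2 * k)] at h''
      push_cast at h''
      have hk2' : (2 : ℤ) ≤ k := by exact_mod_cast hk2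
      have hT : (e : ℤ) * (k * (2 * k - 1)) + 3 < 8 * (2 * (k : ℤ) + 1) ^ 2 := by
        linarith [mul_le_mul_of_nonneg_right (show (e : ℤ) ≤ 6 by exact_mod_cast he6)
          (mul_nonneg (by linarith : (0 : ℤ) ≤ k) (by linarith : (0 : ℤ) ≤ 2 * (k : ℤ) - 1)),
          sq_nonneg (k : ℤ)]
      linarith [mul_lt_mul_of_pos_right hT hnum0,
        mul_le_mul_of_nonneg_left hlt.le (by positivity : (0 : ℤ) ≤ 8 * (2 * (k : ℤ) + 1) ^ 2)]

end CfsgLib.Perm.TwoPointFour
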