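import Mathlib.GroupTheory.GroupAction.Defs
import Mathlib.GroupTheory.GroupAction.Basic
import Mathlib.GroupTheory.Perm.Cycle.Type
import Mathlib.Algebra.BigOperators.Group.Finset.Basic
import Mathlib.Data.Finset.Prod
import Mathlib.Tactic

/-!
Involutions with one fixed point, one for each exchanged pair; signs of semiregular permutations.
-/

set_option autoImplicit false

namespace CfsgLib.Perm.TwoPointFour

open MulAction

/-- If each ordered pair is exchanged by exactly one member of a conjugation invariant set of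
involutions with one fixed point each, then the members correspond to the points. -/
theorem eq_of_one_fixed {X F : Type*} [Group X] [Finite X] [MulAction X F] [Fintype F]
    [IsPretransitive X F] (hF : 2 ≤ Fintype.card F) (W : Set X)
    (hfix : ∀ x ∈ W, ∃! c : F, x • c = c) (hconj : ∀ g : X, ∀ x ∈ W, g * x * g⁻¹ ∈ W)
    (hpair : ∀ c d : F, c ≠ d → ∃! x, x ∈ W ∧ x • c = d)
    {x y : X} (hx : x ∈ W) (hy : y ∈ W) {c : F} (hxc : x • c = c) (hyc : y • c = c) : x = y := by
  classical
  haveI := Fintype.ofFinite X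
  set Wf : Finset X := Finset.univ.filter fun w => w ∈ W with hWf
  -- moved incidences correspond to ordered pairs
  have h1 : Wf.card * (Fintype.card F - 1) = Fintype.card F * (Fintype.card F - 1) := by
    set T : Finset (X × F) := (Wf ×ˢ Finset.univ).filter fun p => p.1 • p.2 ≠ p.2 with hT
    have hA : T.card = Wf.card * (Fintype.card F - 1) := by
      rw [Finset.card_eq_sum_card_fiberwise (f := Prod.fst) (t := Wf)
        (fun p hp => (Finset.mem_product.1 (Finset.mem_filter.1 hp).1).1),
        Finset.sum_const_nat (m := Fintype.card F - 1) fun w hw => ?_]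
      obtain ⟨p, hp, hpu⟩ := hfix w (Finset.mem_filter.1 hw).2
      rw [← Finset.card_univ, ← Finset.card_erase_of_mem (Finset.mem_univ p)]
      refine Finset.card_bij (fun q _ => q.2) (fun q hq => ?_) (fun q hq r hr e => ?_) (fun d hd => ?_)
      · obtain ⟨hqT, rfl⟩ := Finset.mem_filter.1 hq
        exact Finset.mem_erase.2 ⟨fun e => (Finset.mem_filter.1 hqT).2 (e ▸ hp), Finset.mem_univ _⟩
      · exact Prod.ext ((Finset.mem_filter.1 hq).2.trans (Finset.mem_filter.1 hr).2.symm) e
      · refine ⟨(w, d), ?_, rfl⟩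
        simp only [hT, Finset.mem_filter, Finset.mem_product, Finset.mem_univ, and_true, hw, true_and]
        exact fun e => (Finset.mem_erase.1 hd).1 (hpu d e)
    have hB : T.card = (Finset.univ : Finset F).offDiag.card := by
      refine Finset.card_bij (fun q _ => (q.2, q.1 • q.2)) (fun q hq => ?_) (fun q hq r hr e => ?_)
        (fun p hp => ?_)
      · simpa [Finset.mem_offDiag] using (Finset.mem_filter.1 hq).2.symm
      · obtain ⟨e1, e2⟩ := Prod.ext_iff.1 e
        simp only at e1 e2
        obtain ⟨hq1, hq2⟩ := Finset.mem_filter.1 hq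
        obtain ⟨hr1, -⟩ := Finset.mem_filter.1 hr
        refine Prod.ext ?_ e1
        refine (hpair q.2 (q.1 • q.2) (Ne.symm hq2)).unique
          ⟨(Finset.mem_filter.1 (Finset.mem_product.1 hq1).1).2, rfl⟩
          ⟨(Finset.mem_filter.1 (Finset.mem_product.1 hr1).1).2, ?_⟩
        rw [e2, e1]
      · obtain ⟨w, ⟨hw, hwd⟩, -⟩ := hpair p.1 p.2 (Finset.mem_offDiag.1 hp).2.2
        refine ⟨(w, p.1), ?_, Prod.ext rfl hwd⟩
        simp only [hT, hWf, Finset.mem_filter, Finset.mem_product, Finset.mem_univ, and_true, hw, true_and]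
        rw [hwd]
        exact ((Finset.mem_offDiag.1 hp).2.2).symm
    rw [← hA, hB, Finset.offDiag_card, Finset.card_univ, Nat.mul_sub, mul_one]
  have hcard : Wf.card = Fintype.card F := Nat.eq_of_mul_eq_mul_right (by omega) h1
  let fx : {w // w ∈ Wf} → F := fun w => (hfix w.1 (Finset.mem_filter.1 w.2).2).choose
  have hfx : ∀ (w : {w // w ∈ Wf}) (d : F), w.1 • d = d → fx w = d := fun w d hd =>
    ((hfix w.1 (Finset.mem_filter.1 w.2).2).choose_spec.2 d hd).symm
  have hsurj : Function.Surjective fx := by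
    intro d
    obtain ⟨g, hg⟩ := exists_smul_eq X c d
    refine ⟨⟨g * x * g⁻¹, Finset.mem_filter.2 ⟨Finset.mem_univ _, hconj g x hx⟩⟩, hfx _ d ?_⟩
    rw [mul_smul, mul_smul, ← hg, inv_smul_smul, hxc]
  have hinj : Function.Injective fx := (Fintype.bijective_iff_surjective_and_card fx).2
    ⟨hsurj, by rw [Fintype.card_coe, hcard]⟩ |>.1
  exact congrArg Subtype.val (@hinj ⟨x, Finset.mem_filter.2 ⟨Finset.mem_univ _, hx⟩⟩
    ⟨y, Finset.mem_filter.2 ⟨Finset.mem_univ _, hy⟩⟩ ((hfx _ c hxc).trans (hfx _ c hyc).symm))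

/-- A permutation all whose non-trivial powers move the whole support has cycles of equal length. -/
theorem sign_of_semiregular {α : Type*} [Fintype α] [DecidableEq α] (g : Equiv.Perm α) {N q : ℕ}
    (hN : orderOf g = N) (hs : ∀ (i : ℕ), g ^ i ≠ 1 → ∀ x, g x ≠ x → (g ^ i) x ≠ x)
    (hq : g.support.card = N * q) (hN0 : 2 ≤ N) : Equiv.Perm.sign g = (-1) ^ (N * q + q) := by
  have hall : ∀ l ∈ g.cycleType, l = N := by
    intro l hl
    have hdvd : l ∣ N := hN ▸ Equiv.Perm.dvd_of_mem_cycleType hl
    rw [Equiv.Perm.cycleType_def, Multiset.mem_map] at hl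
    obtain ⟨s, hs', rfl⟩ := hl
    have hcyc := Equiv.Perm.mem_cycleFactorsFinset_iff.1 (Finset.mem_def.2 hs')
    obtain ⟨x, hx⟩ := hcyc.1.nonempty_support
    have hgx : g x ≠ x := by
      rw [← hcyc.2 x hx]; exact Equiv.Perm.mem_support.1 hx
    refine Nat.dvd_antisymm hdvd (hN ▸ orderOf_dvd_of_pow_eq_one ?_)
    by_contra hne
    refine hs _ hne x hgx ?_
    have key : ∀ (i : ℕ), (g ^ i) x = (s ^ i) x := by
      intro i
      induction i with
      | zero => rfl
      | succ i ih =>
        rw [pow_succ', pow_succ', Equiv.Perm.mul_apply, Equiv.Perm.mul_apply, ih]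
        exact (hcyc.2 _ (Equiv.Perm.pow_apply_mem_support.2 hx)).symm
    show (g ^ s.support.card) x = x
    rw [key, ← hcyc.1.orderOf, pow_orderOf_eq_one, Equiv.Perm.one_apply]
  rw [Equiv.Perm.sign_of_cycleType]
  have hrep : g.cycleType = Multiset.replicate g.cycleType.card N := Multiset.eq_replicate_card.2 hall
  have hsum : g.cycleType.sum = N * q := by rw [Equiv.Perm.sum_cycleType, hq]
  have hcq : g.cycleType.card = q := by
    rw [hrep, Multiset.sum_replicate, smul_eq_mul, mul_comm] at hsum
    exact Nat.eq_of_mul_eq_mul_left (by omega) hsum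
  rw [hsum, hcq]

end CfsgLib.Perm.TwoPointFour
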