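import Mathlib.GroupTheory.GroupAction.MultipleTransitivity
import Mathlib.GroupTheory.SpecificGroups.Alternating
import Mathlib.GroupTheory.Subgroup.Centralizer

/-!
Doubly transitive groups with two-point stabilisers isomorphic to the alternating group of degree
four: the hypothesis and the base data.
-/

set_option autoImplicit false

namespace CfsgLib.Perm.TwoPointFour

open MulAction

/-- Two point transitive, faithful, pair stabilisers `A₄`. -/
structure Hyp (G Ω : Type*) [Group G] [MulAction G Ω] : Prop where
  faith : FaithfulSMul G Ω
  two : IsMultiplyPretransitive G Ω 2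
  stab : ∀ c d : Ω, c ≠ d →
    Nonempty (↥(stabilizer G c ⊓ stabilizer G d) ≃* ↥(alternatingGroup (Fin 4)))

/-- Two points and two commuting involutions fixing both. -/
structure Base (G Ω : Type*) [Group G] [MulAction G Ω] where
  a : Ω
  b : Ω
  t : G
  v : G
  hab : a ≠ b
  ht : orderOf t = 2
  hv : orderOf v = 2
  hne : t ≠ v
  hcomm : Commute t v
  hta : t • a = a
  htb : t • b = b
  hva : v • a = a
  hvb : v • b = b

end CfsgLib.Perm.TwoPointFour
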