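import Cfsg.Agent.Lib.Perm.TwoPointFour.Quot
import Cfsg.Agent.Lib.Perm.TwoPointFour.Arith
import Cfsg.Agent.Lib.Perm.TwoPointFive.Klein

/-!
Doubly transitive groups with two-point stabiliser `A₄` of even degree: the degree is 6, 16 or 28.
-/

set_option autoImplicit false
set_option linter.unusedSectionVars false
set_option linter.style.haveILetI false

namespace CfsgLib.Perm.TwoPointFour

open MulAction
open scoped Pointwise
open CfsgLib.Perm.TwoPointFive (mul_self_of_order_two ne_one_of_order_two order_two inv_eq_self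
  orderOf_conj_two card_of_point_orbit Sharp HalfSharp Big fixAct even_moved klein_deg)

universe u w

variable {G : Type u} {Ω : Type w} [Group G] [Finite G] [MulAction G Ω] [Fintype Ω]

attribute [local instance] CfsgLib.Perm.TwoPointFive.fixAct

namespace Base

variable (h : Hyp G Ω) (B : Base G Ω)
include h

/-- In even degree `k` is a power of two and `m` is `k`, `k²` or `k(2k - 1)`. -/
theorem even_sizes (hn : Even (Fintype.card Ω)) : ∃ i : ℕ, 1 ≤ i ∧ B.k = 2 ^ i ∧
    (B.m = B.k ∨ B.m = B.k * B.k ∨ B.m = B.k * (2 * B.k - 1)) := by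
  classical
  have hlt := B.m_lt h
  have hm : Even B.m := by
    obtain ⟨r, hr⟩ := B.even_sub h
    obtain ⟨s, hs⟩ := hn
    exact ⟨s - r, by omega⟩
  haveI : Fintype (fixedBy Ω B.t) := Fintype.ofFinite _
  have hF : Fintype.card (fixedBy Ω B.t) = B.m := by rw [← Nat.card_eq_fintype_card, B.card_fix]
  have hpos : ∀ i, B.k = 2 ^ i → 1 ≤ i := fun i hi => by
    rcases i with _ | i
    · have := B.two_le_k; simp at hi; omega
    · omega
  rcases B.k_le_m.eq_or_lt with hkm | hkm
  · have hS := B.sharp h hkm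
    obtain ⟨-, p, j, hp, -, hj, -⟩ := sharply_two_structure B.Ind hS.two (fun e => by
      rw [Subgroup.eq_bot_iff_forall]
      intro g hg
      rw [mem_stabilizer_iff] at hg
      exact hS.pair (e 0) (e 1) (by simp) g (congrArg (fun f => f 0) hg)
        (congrArg (fun f => f 1) hg)) (by rw [hF]; exact B.two_le_m)
    rw [hF] at hj
    have hp2 : p = 2 := ((Nat.prime_dvd_prime_iff_eq Nat.prime_two hp).1
      (Nat.prime_two.dvd_of_dvd_pow (hj ▸ hm.two_dvd))).symm
    subst hp2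
    exact ⟨j, hpos j (hkm.trans hj), hkm.trans hj, Or.inl hkm.symm⟩
  · obtain ⟨hbig, hcard⟩ := B.big_v h hkm
    have hmoved := even_moved (F := fixedBy Ω B.t) (x := B.ind ⟨B.v, B.v_mem⟩)
      (mul_self_of_order_two hbig.1)
    rw [hcard, hF] at hmoved
    have hk : Even B.k := by
      obtain ⟨r, hr⟩ := hmoved
      obtain ⟨s, hs⟩ := hm
      exact ⟨s - r, by omega⟩
    obtain ⟨i, hi⟩ := (B.halfSharp h hkm).fix_two_pow hbig (hcard.symm ▸ hk)
    rw [hcard] at hi
    refine ⟨i, hpos i hi, hi, Or.inr ?_⟩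
    rcases (B.halfSharp h hkm).one_or_two hbig (by rw [hcard, hF]; exact hkm) with ⟨e, -⟩ | ⟨e, -⟩ <;>
      rw [hF, hcard] at e
    · exact Or.inl e
    · exact Or.inr e

theorem card_cent_point :
    Nat.card ↥(stabilizer G B.a ⊓ Subgroup.centralizer ({B.t} : Set G)) = (B.m - 1) * 4 := by
  have hc : ∀ g ∈ stabilizer G B.a ⊓ Subgroup.centralizer ({B.t} : Set G), Commute g B.t :=
    fun g hg => Subgroup.mem_centralizer_singleton_iff.1 hg.2
  rw [← B.card_inf_four h _ hc ⟨B.hta, Subgroup.mem_centralizer_singleton_iff.2 rfl⟩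
    ⟨B.hva, Subgroup.mem_centralizer_singleton_iff.2 B.hcomm.symm.eq⟩]
  refine card_of_point_orbit _ B.hab B.ha B.hb (fun g hg => hg.1) (fun g hg x hx => ?_) fun c hc' hne => ?_
  · show B.t • g • x = g • x
    rw [← mul_smul, ← (hc g hg).eq, mul_smul, hx]
  · obtain ⟨g, h1, h2, h3⟩ := B.move h B.ha hc' (Ne.symm hne)
    exact ⟨g, ⟨h2, Subgroup.mem_centralizer_singleton_iff.2 h1.eq⟩, h3⟩

theorem card_cent_four_point (hk : Even B.k) :
    Nat.card ↥(stabilizer G B.a ⊓ Subgroup.centralizer ({B.t, B.v} : Set G)) = (B.k - 1) * 4 := by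
  classical
  set C1 : Subgroup G := stabilizer G B.a ⊓ Subgroup.centralizer ({B.t} : Set G) ⊓
    stabilizer G B.FV with hC1
  set C2 : Subgroup G := stabilizer G B.a ⊓ Subgroup.centralizer ({B.t, B.v} : Set G) with hC2
  have hcomm : ∀ {g : G}, g ∈ C2 → Commute g B.t ∧ Commute g B.v := fun {g} hg =>
    ⟨(Subgroup.mem_centralizer_iff.1 hg.2 B.t (Set.mem_insert _ _)).symm,
      (Subgroup.mem_centralizer_iff.1 hg.2 B.v (Set.mem_insert_of_mem _ rfl)).symm⟩
  -- an element of the centraliser of `t` moving `v` inside the four group preserves its fixed points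
  have hpres : ∀ {g : G}, Commute g B.t → (g * B.v * g⁻¹ = B.v ∨ g * B.v * g⁻¹ = B.t * B.v) →
      g • B.FV = B.FV := by
    intro g hg hgv
    refine Set.eq_of_subset_of_ncard_le ?_ (by rw [Set.ncard_smul_set]) (Set.toFinite _)
    rintro _ ⟨x, ⟨hx1, hx2⟩, rfl⟩
    refine ⟨show B.t • g • x = g • x by rw [← mul_smul, ← hg.eq, mul_smul, hx1], ?_⟩
    show B.v • g • x = g • x
    rcases hgv with e | e
    · rw [← mul_smul, ← mul_inv_eq_iff_eq_mul.1 e, mul_smul, hx2]
    · have e' : B.v * g = g * (B.t * B.v) := by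
        have e1 : g * B.v = B.t * B.v * g := mul_inv_eq_iff_eq_mul.1 e
        calc B.v * g = B.t * B.t * B.v * g := by rw [mul_self_of_order_two B.ht, one_mul]
          _ = B.t * (B.t * B.v * g) := by simp only [mul_assoc]
          _ = B.t * g * B.v := by rw [← e1, mul_assoc]
          _ = g * (B.t * B.v) := by rw [← hg.eq, mul_assoc]
      rw [← mul_smul, e', mul_smul, mul_smul, hx2, hx1]
  have hC1c : ∀ g ∈ C1, Commute g B.t := fun g hg => Subgroup.mem_centralizer_singleton_iff.1 hg.1.2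
  have hv1 : B.v ∈ C1 := by
    refine ⟨⟨B.hva, Subgroup.mem_centralizer_singleton_iff.2 B.hcomm.symm.eq⟩, ?_⟩
    exact hpres B.hcomm.symm (Or.inl (by group))
  have ht1 : B.t ∈ C1 := by
    refine ⟨⟨B.hta, Subgroup.mem_centralizer_singleton_iff.2 rfl⟩, ?_⟩
    exact hpres (Commute.refl _) (Or.inl (by rw [B.hcomm.eq, mul_inv_cancel_right]))
  have hcard1 : Nat.card C1 = (B.k - 1) * 4 := by
    rw [← B.card_inf_four h C1 hC1c ht1 hv1]
    refine card_of_point_orbit C1 B.hab B.haV B.hbV (fun g hg => hg.1.1) (fun g hg x hx => ?_)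
      fun c hc hne => ?_
    · have e : g • B.FV = B.FV := hg.2
      exact e ▸ Set.smul_mem_smul_set hx
    · obtain ⟨g, h1, h2, h3, h4⟩ := B.moveV h B.haV hc (Ne.symm hne)
      exact ⟨g, ⟨⟨h3, Subgroup.mem_centralizer_singleton_iff.2 h1.eq⟩, hpres h1 h2⟩, h4⟩
  have hle : C2 ≤ C1 := fun g hg =>
    ⟨⟨hg.1, Subgroup.mem_centralizer_singleton_iff.2 (hcomm hg).1.eq⟩,
      hpres (hcomm hg).1 (Or.inl (by rw [(hcomm hg).2.eq, mul_inv_cancel_right]))⟩
  have hmem : ∀ g ∈ C1, g * B.v * g⁻¹ = B.v → g ∈ C2 := fun g hg e => by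
    refine ⟨hg.1.1, Subgroup.mem_centralizer_iff.2 ?_⟩
    rintro y (rfl | rfl)
    · exact (hC1c g hg).symm.eq
    · exact (mul_inv_eq_iff_eq_mul.1 e).symm
  have hcase : ∀ g ∈ C1, g * B.v * g⁻¹ = B.v ∨ g * B.v * g⁻¹ = B.t * B.v := fun g hg => by
    have e : g • B.FV = B.FV := hg.2
    exact B.conj_v h (hC1c g hg) (e ▸ Set.smul_mem_smul_set B.haV)
      (e ▸ Set.smul_mem_smul_set B.hbV)
  rw [← hcard1]
  suffices hall : ∀ g ∈ C1, g * B.v * g⁻¹ = B.v by
    rw [le_antisymm hle fun g hg => hmem g hg (hall g hg)]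
  by_contra hne
  push Not at hne
  obtain ⟨g, hg, hgv⟩ := hne
  have hg' := (hcase g hg).resolve_left hgv
  have hnot : ∀ x : G, x * B.v * x⁻¹ = B.t * B.v → x ∉ C2 := fun x e hx => by
    rw [(hcomm hx).2.eq, mul_inv_cancel_right] at e
    exact ne_one_of_order_two B.ht (mul_eq_right.1 e.symm)
  have htv : ∀ x ∈ C1, x * (B.t * B.v) * x⁻¹ = B.t * (x * B.v * x⁻¹) := fun x hx => by
    rw [← mul_assoc, (hC1c x hx).eq, mul_assoc B.t, mul_assoc B.t]
  have hidx : (C2.subgroupOf C1).index = 2 := by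
    refine Subgroup.index_eq_two_iff.2 ⟨⟨g, hg⟩, fun b => ?_⟩
    have hcomp : ((b : G) * g) * B.v * ((b : G) * g)⁻¹ = B.t * ((b : G) * B.v * (b : G)⁻¹) := by
      rw [← htv _ b.2, ← hg']; group
    simp only [Subgroup.mem_subgroupOf, Subgroup.coe_mul]
    rcases hcase _ b.2 with e | e <;> rw [e] at hcomp
    · exact Or.inr ⟨hmem _ b.2 e, hnot _ hcomp⟩
    · rw [← mul_assoc, mul_self_of_order_two B.ht, one_mul] at hcomp
      exact Or.inl ⟨hmem _ (mul_mem b.2 hg) hcomp, hnot _ e⟩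
  have h1 := (C2.subgroupOf C1).card_mul_index
  rw [hidx, Nat.card_congr (Subgroup.subgroupOfEquivOfLe hle).toEquiv, hcard1] at h1
  have h4 : 4 ∣ Nat.card C2 := by
    rw [← B.card_inf_four h C2 (fun x hx => (hcomm hx).1) ?_ ?_]
    · exact Subgroup.card_dvd_of_le inf_le_left
    · refine ⟨B.hta, Subgroup.mem_centralizer_iff.2 ?_⟩
      rintro y (rfl | rfl)
      · rfl
      · exact B.hcomm.symm.eq
    · refine ⟨B.hva, Subgroup.mem_centralizer_iff.2 ?_⟩
      rintro y (rfl | rfl)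
      · exact B.hcomm.eq
      · rfl
  obtain ⟨r, hr⟩ := h4
  obtain ⟨s, hs⟩ := hk
  have := B.two_le_k
  omega

/-- The order equation of a point stabiliser. -/
theorem even_equation (hn : Even (Fintype.card Ω)) (hk : Even B.k) :
    ∃ a b c ε : ℤ, CfsgLib.Perm.TwoPointFive.KleinDeg a b c ε ∧
      ((B.e * B.m + 3 : ℕ) : ℤ) * ((a + 1) * (b + ε) * (c - 1)) * ((B.k : ℤ) - 1) ^ 2 =
        8 * ((B.m : ℤ) - 1) ^ 2 * (a * b * c) := by
  classical
  haveI : Fact (Nat.Prime 2) := ⟨Nat.prime_two⟩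
  set A : Subgroup G := stabilizer G B.a with hA
  have hAcard : Nat.card A = (Fintype.card Ω - 1) * 12 := h.card_stab B.hab
  set C := Subgroup.centralizer ({B.t} : Set G) with hC
  set V : Subgroup G := C ⊓ (stabilizer G B.a ⊓ stabilizer G B.b) with hV
  have hVc : ∀ g ∈ C, Commute g B.t := fun g hg => Subgroup.mem_centralizer_singleton_iff.1 hg
  have hVcard : Nat.card V = 4 := B.card_inf_four h C hVc (B.t_mem) (B.v_mem)
  have hVmem : ∀ g ∈ V, g = 1 ∨ g = B.t ∨ g = B.v ∨ g = B.t * B.v := fun g hg =>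
    B.cases_of_fix h B.hab B.hta B.htb B.hva B.hvb hg.2.1 hg.2.2 (hVc g hg.1)
  have hVA : V ≤ A := fun g hg => hg.2.1
  have hfac : (Nat.card A).factorization 2 = 2 := by
    obtain ⟨s, hs⟩ := hn
    have := B.m_lt h
    have := B.two_le_m
    rw [hAcard, show (Fintype.card Ω - 1) * 12 = 2 ^ 2 * ((Fintype.card Ω - 1) * 3) by ring,
      Nat.factorization_mul (by norm_num) (Nat.mul_ne_zero (by omega) (by norm_num)), Finsupp.add_apply,
      Nat.prime_two.factorization_pow, Finsupp.single_eq_same,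
      Nat.factorization_eq_zero_of_not_dvd (by omega)]
  have hV' : Nat.card (V.subgroupOf A) = 4 :=
    (Nat.card_congr (Subgroup.subgroupOfEquivOfLe hVA).toEquiv).trans hVcard
  let P : Sylow 2 A := Sylow.ofCard (V.subgroupOf A) (by rw [hV', hfac]; norm_num)
  have hP : IsKleinFour (P : Subgroup A) := by
    refine CfsgLib.BlockA.isKleinFour_of_sq (by rw [show (P : Subgroup A) = V.subgroupOf A from rfl, hV']) fun x => ?_
    refine Subtype.ext (Subtype.ext ?_)
    show ((x : A) : G) * ((x : A) : G) = 1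
    rcases hVmem ((x : A) : G) x.2 with e | e | e | e <;> rw [e]
    · exact one_mul 1
    · exact mul_self_of_order_two B.ht
    · exact mul_self_of_order_two B.hv
    · exact mul_self_of_order_two B.orderOf_tv
  set J : A := ⟨B.t, B.hta⟩ with hJ
  have hone : ∀ s t : A, orderOf s = 2 → orderOf t = 2 → IsConj s t := by
    have key : ∀ s : A, orderOf s = 2 → IsConj J s := fun s hs => by
      have hs' : orderOf (s : G) = 2 := by rw [Subgroup.orderOf_coe]; exact hs
      obtain ⟨c, hca, hc⟩ : ∃ c, c ≠ B.a ∧ (s : G) • c = c := by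
        have h2 := even_moved (F := Ω) (mul_self_of_order_two hs')
        have hne : (fixedBy Ω (s : G)).ncard ≠ 1 := by
          intro e
          rw [Nat.card_coe_set_eq, e] at h2
          obtain ⟨r, hr⟩ := h2
          obtain ⟨q, hq⟩ := hn
          have := B.m_lt h
          omega
        by_contra hcon
        push Not at hcon
        refine hne (Set.ncard_eq_one.2 ⟨B.a, Set.eq_singleton_iff_unique_mem.2 ⟨s.2, fun x hx => ?_⟩⟩)
        by_contra hx'
        exact hcon x hx' hx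
      obtain ⟨g, hga, -, hg⟩ := h.isConj_fix_two B.ht hs' B.hab B.hta B.htb hca.symm s.2 hc
      exact isConj_iff.2 ⟨⟨g, hga⟩, Subtype.ext hg⟩
    exact fun s t hs ht => (key s hs).symm.trans (key t ht)
  have hJo : orderOf J = 2 := by rw [← Subgroup.orderOf_coe]; exact B.ht
  obtain ⟨a, b, c, ε, D, heq⟩ := klein_deg P hP hone hJo
  have hcJ : Nat.card (Subgroup.centralizer ({J} : Set A)) = (B.m - 1) * 4 := by
    rw [← B.card_cent_point h]
    refine Nat.card_congr
      { toFun := fun g => ⟨((g : A) : G), (g : A).2, Subgroup.mem_centralizer_singleton_iff.2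
          (congrArg Subtype.val (Subgroup.mem_centralizer_singleton_iff.1 g.2))⟩
        invFun := fun g => ⟨⟨(g : G), g.2.1⟩, Subgroup.mem_centralizer_singleton_iff.2
          (Subtype.ext (Subgroup.mem_centralizer_singleton_iff.1 g.2.2))⟩
        left_inv := fun g => rfl
        right_inv := fun g => rfl }
  have hcP : Nat.card (Subgroup.centralizer ((P : Subgroup A) : Set A)) = (B.k - 1) * 4 := by
    rw [← B.card_cent_four_point h hk]
    refine Nat.card_congr
      { toFun := fun g => ⟨((g : A) : G), (g : A).2, Subgroup.mem_centralizer_iff.2 ?_⟩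
        invFun := fun g => ⟨⟨(g : G), g.2.1⟩, Subgroup.mem_centralizer_iff.2 ?_⟩
        left_inv := fun g => rfl
        right_inv := fun g => rfl }
    · rintro y (rfl | rfl)
      · exact congrArg Subtype.val (Subgroup.mem_centralizer_iff.1 g.2 ⟨B.t, B.hta⟩
          (show B.t ∈ V from ⟨B.t_mem, B.hta, B.htb⟩))
      · exact congrArg Subtype.val (Subgroup.mem_centralizer_iff.1 g.2 ⟨B.v, B.hva⟩
          (show B.v ∈ V from ⟨B.v_mem, B.hva, B.hvb⟩))
    · intro y hy
      refine Subtype.ext ?_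
      show (y : G) * (g : G) = (g : G) * (y : G)
      have h1 : Commute (g : G) B.t :=
        (Subgroup.mem_centralizer_iff.1 g.2.2 B.t (Set.mem_insert _ _)).symm
      have h2 : Commute (g : G) B.v :=
        (Subgroup.mem_centralizer_iff.1 g.2.2 B.v (Set.mem_insert_of_mem _ rfl)).symm
      rcases hVmem (y : G) hy with e | e | e | e <;> rw [e]
      · rw [one_mul, mul_one]
      · exact h1.eq.symm
      · exact h2.eq.symm
      · exact (h1.mul_right h2).eq.symm
  rw [hAcard, hcJ, hcP] at heq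
  refine ⟨a, b, c, ε, D, ?_⟩
  have hcnt := B.count h
  have h1 := B.two_le_m
  have h2 := B.two_le_k
  have h3 := B.m_lt h
  zify [show B.m ≤ Fintype.card Ω by omega, show 1 ≤ B.m by omega] at hcnt
  push_cast [Nat.cast_sub (show 1 ≤ Fintype.card Ω by omega), Nat.cast_sub (show 1 ≤ B.m by omega),
    Nat.cast_sub (show 1 ≤ B.k by omega)] at heq
  push_cast
  refine mul_left_cancel₀ (show (64 : ℤ) * ((B.m : ℤ) - 1) ≠ 0 by omega) ?_
  linear_combination heq - 64 * ((a + 1) * (b + ε) * (c - 1)) * ((B.k : ℤ) - 1) ^ 2 * hcnt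

end Base

/-- **Even degree.** -/
theorem Hyp.even_cases (h : Hyp G Ω) (B : Base G Ω) (hn : Even (Fintype.card Ω)) :
    Fintype.card Ω = 6 ∨ (Fintype.card Ω = 16 ∧ B.e = 3 ∧ B.m = 4 ∧ B.k = 4) ∨
      (Fintype.card Ω = 28 ∧ B.e = 6) := by
  obtain ⟨i, hi, hk, hm⟩ := B.even_sizes h hn
  obtain ⟨a, b, c, ε, D, heq⟩ := B.even_equation h hn
    (hk ▸ Nat.even_pow.2 ⟨even_two, by omega⟩)
  have he : B.e = 1 ∨ B.e = 3 ∨ B.e = 4 ∨ B.e = 6 := by
    rcases B.swap_cases h with ⟨u, -, ⟨e, -⟩ | ⟨e, -⟩ | ⟨e, -⟩⟩ | ⟨s, -, e⟩ <;> omega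
  have hcnt := B.count h
  have hlt := B.m_lt h
  rcases even_arith D he hi hk hm heq with ⟨h1, h2, h3⟩ | ⟨h1, h2, h3⟩ | ⟨h1, h2, h3⟩ <;>
    rw [h1, h3] at hcnt <;> norm_num at hcnt
  · exact Or.inl (by omega)
  · exact Or.inr (Or.inl ⟨by omega, h1, h3, h2⟩)
  · exact Or.inr (Or.inr ⟨by omega, h1⟩)

end CfsgLib.Perm.TwoPointFour
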