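import Mathlib.GroupTheory.SpecificGroups.Alternating
import Mathlib.Algebra.Group.Subgroup.Finite
import Mathlib.Tactic

/-!
Facts about the alternating group of degree four, transported along isomorphisms.
-/

set_option autoImplicit false
set_option maxRecDepth 100000
set_option synthInstance.maxSize 2000
set_option synthInstance.maxHeartbeats 200000
set_option linter.unusedSectionVars false

namespace CfsgLib.Perm.TwoPointFour

open Equiv

/-- The model. -/
abbrev Alt4 : Type := ↥(alternatingGroup (Fin 4))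

/-- A double transposition. -/
def pa : Perm (Fin 4) := swap 0 1 * swap 2 3

/-- A second one. -/
def pb : Perm (Fin 4) := swap 0 2 * swap 1 3

/-- The three-cycle taking the first to the second. -/
def pg : Perm (Fin 4) := swap 1 2 * swap 2 3

/-- The first, even. -/
def qa : Alt4 := ⟨pa, Perm.mem_alternatingGroup.2 (by decide +kernel)⟩

/-- The second, even. -/
def qb : Alt4 := ⟨pb, Perm.mem_alternatingGroup.2 (by decide +kernel)⟩

/-- The three-cycle, even. -/
def qg : Alt4 := ⟨pg, Perm.mem_alternatingGroup.2 (by decide +kernel)⟩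

theorem card_alt4 : Nat.card Alt4 = 12 := by rw [Nat.card_eq_fintype_card]; decide +kernel

theorem model_invol : ∀ z : Alt4, z * z = 1 → z = 1 ∨ z = qa ∨ z = qb ∨ z = qa * qb := by
  decide +kernel

theorem model_cent : ∀ z : Alt4, z * qa = qa * z → z = 1 ∨ z = qa ∨ z = qb ∨ z = qa * qb := by
  decide +kernel

theorem model_gen : ∀ z : Alt4, ∃ w : Alt4, w * w = 1 ∧ (z = w ∨ z = w * qg ∨ z = w * (qg * qg)) := by
  decide +kernel

theorem model_frame : ∀ x y : Alt4, x * x = 1 → x ≠ 1 → y * y = 1 → y ≠ 1 → x ≠ y →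
    ∃ p : Perm (Fin 4), p * x.1 * p⁻¹ = pa ∧ p * y.1 * p⁻¹ = pb := by
  decide +kernel

theorem model_rigid : ∀ r : Alt4, r * qa * r⁻¹ = qb → r * qb * r⁻¹ = qa * qb →
    ∃ w : Alt4, w * w = 1 ∧ r = w * qg * w⁻¹ := by
  decide +kernel

theorem model_invol_comm : ∀ x y : Alt4, x * x = 1 → y * y = 1 → x * y = y * x := by
  decide +kernel

theorem model_second : ∀ x : Alt4, x * x = 1 → x ≠ 1 →
    ∃ y : Alt4, y * y = 1 ∧ y ≠ 1 ∧ y ≠ x := by
  decide +kernel

theorem model_odd_count : ∀ π : Perm (Fin 4), π = swap 0 1 ∨ π = swap 2 3 →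
    (Finset.univ.filter fun z : Alt4 => π * z.1 * π = z.1⁻¹).card = 6 := by
  decide +kernel

theorem model_odd_conj : ∀ π : Perm (Fin 4), π = swap 0 1 ∨ π = swap 2 3 →
    ∀ z : Alt4, π * z.1 * π = z.1⁻¹ → ∃ c : Alt4, π * c.1 * π * c.1⁻¹ = z.1 := by
  decide +kernel

theorem model_odd_square : ∀ π : Perm (Fin 4),
    (π = swap 0 1 * pb ∨ π = swap 0 1 * (pa * pb)) → π * (π * pg * π⁻¹) * π⁻¹ ≠ pg := by
  decide +kernel

theorem model_swap : swap (0 : Fin 4) 1 * pa * swap 0 1 = pa ∧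
    swap (0 : Fin 4) 1 * pb * swap 0 1 = pa * pb ∧ swap (0 : Fin 4) 1 * pa = swap 2 3 := by
  decide +kernel

variable {H : Type*} [Group H]

theorem exists_frame (e : H ≃* Alt4) {x y : H} (hx : x * x = 1) (hx1 : x ≠ 1) (hy : y * y = 1)
    (hy1 : y ≠ 1) (hxy : x ≠ y) : ∃ f : H ≃* Alt4, f x = qa ∧ f y = qb := by
  obtain ⟨p, hpa, hpb⟩ := model_frame (e x) (e y) (by rw [← map_mul, hx, map_one])
    (fun h => hx1 (e.injective (h.trans e.map_one.symm))) (by rw [← map_mul, hy, map_one])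
    (fun h => hy1 (e.injective (h.trans e.map_one.symm))) (fun h => hxy (e.injective h))
  refine ⟨e.trans (MulAut.conjNormal p), Subtype.ext ?_, Subtype.ext ?_⟩
  · simp only [MulEquiv.trans_apply, MulAut.conjNormal_apply, hpa]; rfl
  · simp only [MulEquiv.trans_apply, MulAut.conjNormal_apply, hpb]; rfl

theorem card_of_iso (e : H ≃* Alt4) : Nat.card H = 12 := by
  rw [Nat.card_congr e.toEquiv, card_alt4]

theorem exists_second_of_iso (e : H ≃* Alt4) {x : H} (hx : x * x = 1) (hx1 : x ≠ 1) :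
    ∃ y : H, y * y = 1 ∧ y ≠ 1 ∧ y ≠ x := by
  obtain ⟨y, h1, h2, h3⟩ := model_second (e x) (by rw [← map_mul, hx, map_one])
    (fun h => hx1 (e.injective (h.trans e.map_one.symm)))
  exact ⟨e.symm y, e.injective (by simpa using h1), fun h => h2 (by simpa using congrArg e h),
    fun h => h3 (by simpa using congrArg e h)⟩

theorem invol_comm (e : H ≃* Alt4) {x y : H} (hx : x * x = 1) (hy : y * y = 1) : x * y = y * x :=
  e.injective (by
    rw [map_mul, map_mul]
    exact model_invol_comm _ _ (by rw [← map_mul, hx, map_one]) (by rw [← map_mul, hy, map_one]))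

theorem invol_cases (e : H ≃* Alt4) {x y z : H} (hx : x * x = 1) (hx1 : x ≠ 1) (hy : y * y = 1)
    (hy1 : y ≠ 1) (hxy : x ≠ y) (hz : z * z = 1) : z = 1 ∨ z = x ∨ z = y ∨ z = x * y := by
  obtain ⟨f, hfx, hfy⟩ := exists_frame e hx hx1 hy hy1 hxy
  rcases model_invol (f z) (by rw [← map_mul, hz, map_one]) with h | h | h | h
  · exact Or.inl (f.injective (h.trans f.map_one.symm))
  · exact Or.inr (Or.inl (f.injective (h.trans hfx.symm)))
  · exact Or.inr (Or.inr (Or.inl (f.injective (h.trans hfy.symm))))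
  · exact Or.inr (Or.inr (Or.inr (f.injective (by rw [h, map_mul, hfx, hfy]))))

theorem centralizer_cases (e : H ≃* Alt4) {x y z : H} (hx : x * x = 1) (hx1 : x ≠ 1) (hy : y * y = 1)
    (hy1 : y ≠ 1) (hxy : x ≠ y) (hz : z * x = x * z) :
    z = 1 ∨ z = x ∨ z = y ∨ z = x * y := by
  obtain ⟨f, hfx, hfy⟩ := exists_frame e hx hx1 hy hy1 hxy
  rcases model_cent (f z) (by rw [← hfx, ← map_mul, ← map_mul, hz]) with h | h | h | h
  · exact Or.inl (f.injective (h.trans f.map_one.symm))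
  · exact Or.inr (Or.inl (f.injective (h.trans hfx.symm)))
  · exact Or.inr (Or.inr (Or.inl (f.injective (h.trans hfy.symm))))
  · exact Or.inr (Or.inr (Or.inr (f.injective (by rw [h, map_mul, hfx, hfy]))))

/-- An element of order three permuting the three involutions. -/
theorem exists_three (e : H ≃* Alt4) {x y : H} (hx : x * x = 1) (hx1 : x ≠ 1) (hy : y * y = 1)
    (hy1 : y ≠ 1) (hxy : x ≠ y) :
    ∃ g : H, g * g * g = 1 ∧ g * x * g⁻¹ = y ∧ g * y * g⁻¹ = x * y ∧ g * (x * y) * g⁻¹ = x := by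
  obtain ⟨f, hfx, hfy⟩ := exists_frame e hx hx1 hy hy1 hxy
  have h : qg * qg * qg = 1 ∧ qg * qa * qg⁻¹ = qb ∧ qg * qb * qg⁻¹ = qa * qb ∧
      qg * (qa * qb) * qg⁻¹ = qa := by decide +kernel
  exact ⟨f.symm qg, f.injective (by simpa using h.1), f.injective (by simpa [hfx, hfy] using h.2.1),
    f.injective (by simpa [hfx, hfy] using h.2.2.1), f.injective (by simpa [hfx, hfy] using h.2.2.2)⟩

theorem isConj_invol (e : H ≃* Alt4) {x y : H} (hx : x * x = 1) (hx1 : x ≠ 1) (hy : y * y = 1)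
    (hy1 : y ≠ 1) : IsConj x y := by
  rcases eq_or_ne x y with rfl | hxy
  · exact IsConj.refl _
  obtain ⟨g, -, h, -⟩ := exists_three e hx hx1 hy hy1 hxy
  exact isConj_iff.2 ⟨g, h⟩

/-- An automorphism fixing two involutions is inner by the four group they generate. -/
theorem aut_fix (τ : Alt4 ≃* Alt4) (ha : τ qa = qa) (hb : τ qb = qb) :
    ∃ w : Alt4, w * w = 1 ∧ ∀ z, τ z = w * z * w⁻¹ := by
  have h : qg * qa * qg⁻¹ = qb ∧ qg * qb * qg⁻¹ = qa * qb := by decide +kernel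
  obtain ⟨w, hw, hτ⟩ := model_rigid (τ qg)
    (by
      have h' := congrArg τ h.1
      rwa [map_mul, map_mul, map_inv, ha, hb] at h')
    (by
      have h' := congrArg τ h.2
      rwa [map_mul, map_mul, map_inv, map_mul, ha, hb] at h')
  refine ⟨w, hw, fun z => ?_⟩
  obtain ⟨q, hq, hz⟩ := model_gen z
  have hfix : τ q = w * q * w⁻¹ := by
    rw [model_invol_comm w q hw hq, mul_inv_cancel_right]
    rcases model_invol q hq with r | r | r | r <;> rw [r] <;> simp [ha, hb]
  rcases hz with rfl | rfl | rfl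
  · exact hfix
  · rw [map_mul, hfix, hτ]; group
  · rw [map_mul, map_mul, hfix, hτ]; group

theorem aut_fix_iso (e : H ≃* Alt4) (σ : H ≃* H) {x y : H} (hx : x * x = 1) (hx1 : x ≠ 1)
    (hy : y * y = 1) (hy1 : y ≠ 1) (hxy : x ≠ y) (hσx : σ x = x) (hσy : σ y = y) :
    ∃ w : H, w * w = 1 ∧ ∀ z, σ z = w * z * w⁻¹ := by
  obtain ⟨f, hfx, hfy⟩ := exists_frame e hx hx1 hy hy1 hxy
  obtain ⟨w, hw, hτ⟩ := aut_fix (f.symm.trans (σ.trans f))
    (by simp [← hfx, hσx]) (by simp [← hfy, hσy])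
  refine ⟨f.symm w, f.injective (by simpa using hw), fun z => f.injective ?_⟩
  simpa using hτ (f z)

/-- An outer automorphism of order two fixing an involution: six inverted elements, one class. -/
theorem aut_swap_iso [Finite H] (e : H ≃* Alt4) (σ : H ≃* H) {x y : H} (hx : x * x = 1) (hx1 : x ≠ 1)
    (hy : y * y = 1) (hy1 : y ≠ 1) (hxy : x ≠ y) (hσx : σ x = x)
    (hσy : σ y = x * y) (hσ2 : ∀ z, σ (σ z) = z) :
    Nat.card {z : H // σ z = z⁻¹} = 6 ∧ ∀ z : H, σ z = z⁻¹ → ∃ c : H, σ c * c⁻¹ = z := by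
  classical
  obtain ⟨f, hfx, hfy⟩ := exists_frame e hx hx1 hy hy1 hxy
  set π₀ : Perm (Fin 4) := swap 0 1 with hπ₀
  set τ : Alt4 ≃* Alt4 := (f.symm.trans (σ.trans f)).trans (MulAut.conjNormal π₀) with hτdef
  have hτv : ∀ z, (τ z).1 = π₀ * (f (σ (f.symm z))).1 * π₀ := fun z => by
    simp [hτdef, hπ₀]
  obtain ⟨w, hw, hτ⟩ := aut_fix τ
    (Subtype.ext (by rw [hτv, ← hfx, MulEquiv.symm_apply_apply, hσx, hfx]; exact model_swap.1))
    (Subtype.ext (by
      rw [hτv, ← hfy, MulEquiv.symm_apply_apply, hσy, map_mul, hfx, hfy, Subgroup.coe_mul,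
        show ((qa : Alt4) : Perm (Fin 4)) = pa from rfl, show ((qb : Alt4) : Perm (Fin 4)) = pb from rfl]
      have h2 := model_swap.2.1
      calc π₀ * (pa * pb) * π₀ = π₀ * (π₀ * pb * π₀) * π₀ := by rw [hπ₀, h2]
        _ = π₀ * π₀ * pb * (π₀ * π₀) := by group
        _ = pb := by rw [hπ₀, swap_mul_self, one_mul, mul_one]))
  have hπ0 : π₀⁻¹ = π₀ := swap_inv _ _
  have hσf : ∀ z : H, (f (σ z)).1 = π₀ * w.1 * (f z).1 * (π₀ * w.1)⁻¹ := fun z => by
    have h := hτv (f z)
    rw [hτ, MulEquiv.symm_apply_apply] at h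
    have h' : w.1 * (f z).1 * w.1⁻¹ = π₀ * (f (σ z)).1 * π₀ := h
    calc (f (σ z)).1 = (π₀ * π₀) * (f (σ z)).1 * (π₀ * π₀) := by
          rw [hπ₀, swap_mul_self, one_mul, mul_one]
      _ = π₀ * (π₀ * (f (σ z)).1 * π₀) * π₀ := by group
      _ = _ := by rw [← h', mul_inv_rev, hπ0]; group
  have hπ : π₀ * w.1 = swap 0 1 ∨ π₀ * w.1 = swap 2 3 := by
    have hsq : π₀ * w.1 * (π₀ * w.1 * pg * (π₀ * w.1)⁻¹) * (π₀ * w.1)⁻¹ = pg := by
      have h := congrArg Subtype.val (congrArg f (hσ2 (f.symm qg)))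
      rw [hσf, hσf, MulEquiv.apply_symm_apply] at h
      simpa only [qg] using h
    rcases model_invol w hw with e1 | e1 | e1 | e1 <;> rw [e1] at hsq ⊢
    · left
      rw [OneMemClass.coe_one, mul_one]
    · right
      exact model_swap.2.2
    · exact absurd hsq (model_odd_square _ (Or.inl rfl))
    · exact absurd hsq (model_odd_square _ (Or.inr rfl))
  have hinv : (π₀ * w.1)⁻¹ = π₀ * w.1 := by rcases hπ with h | h <;> rw [h, swap_inv]
  rw [hinv] at hσf
  have hiff : ∀ z : H, σ z = z⁻¹ ↔ π₀ * w.1 * (f z).1 * (π₀ * w.1) = ((f z).1)⁻¹ := fun z => by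
    rw [← hσf, ← Subgroup.coe_inv, ← map_inv, ← Subtype.ext_iff, f.injective.eq_iff]
  refine ⟨?_, fun z hz => ?_⟩
  · rw [← model_odd_count _ hπ, ← Nat.card_eq_finsetCard]
    exact Nat.card_congr (f.toEquiv.subtypeEquiv fun z => by simpa using hiff z)
  · obtain ⟨c, hc⟩ := model_odd_conj _ hπ (f z) ((hiff z).1 hz)
    refine ⟨f.symm c, f.injective (Subtype.ext ?_)⟩
    rw [map_mul, Subgroup.coe_mul, hσf, map_inv, MulEquiv.apply_symm_apply]
    exact hc

theorem card_sq_one_iso [Finite H] (e : H ≃* Alt4) : Nat.card {z : H // z * z = 1} = 4 := by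
  classical
  have h4 : (Finset.univ.filter fun z : Alt4 => z * z = 1).card = 4 := by decide +kernel
  rw [← h4, ← Nat.card_eq_finsetCard]
  exact Nat.card_congr (e.toEquiv.subtypeEquiv fun z => by
    simp only [MulEquiv.toEquiv_eq_coe, MulEquiv.coe_toEquiv, Finset.mem_filter, Finset.mem_univ,
      true_and]
    rw [← map_mul, ← map_eq_one_iff e e.injective])

end CfsgLib.Perm.TwoPointFour
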