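import Cfsg.Agent.Lib.Perm.TwoPointFour.Swap
import Cfsg.Agent.Lib.Perm.TwoPointFive.Final
import Cfsg.Agent.S0984
import Cfsg.Agent.Lib.Invol.FusionBasics
import Mathlib.GroupTheory.PGroup

/-!
The final degrees: six (alternating group), twenty-eight (absent) and fifteen (alternating group of
degree seven).
-/

set_option autoImplicit false
set_option maxRecDepth 100000
set_option linter.unusedSectionVars false
set_option linter.style.haveILetI false

namespace CfsgLib.Perm.TwoPointFour

open MulAction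
open CfsgLib.Perm.TwoPointFive (mul_self_of_order_two ne_one_of_order_two order_two inv_eq_self
  orderOf_conj_two card_sup_disj exists_ne_points)

theorem model_three_conj : ∀ z w : Alt4, z * z * z = 1 → z ≠ 1 → w * w * w = 1 → w ≠ 1 →
    ∃ c : Alt4, c * z * c⁻¹ = w ∨ c * z⁻¹ * c⁻¹ = w := by
  decide +kernel

theorem model_three_gen : ∀ x : Alt4, ∃ u w : Alt4, u * u * u = 1 ∧ w * w * w = 1 ∧ x = u * w := by
  decide +kernel

theorem model_no_inv : ∀ x y : Alt4, x * y * x⁻¹ = y⁻¹ → y * y * y = 1 → y = 1 := by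
  decide +kernel

section Tools

variable {A : Type*} [Group A]

/-- A subgroup closed under conjugation by a copy of `A₄` contains it once it contains one of its
elements of order three. -/
theorem le_of_three (H : Subgroup A) (e : ↥H ≃* Alt4) {K : Subgroup A}
    (hK : ∀ c ∈ H, ∀ k ∈ K, c * k * c⁻¹ ∈ K) {z : A} (hzH : z ∈ H) (hz : orderOf z = 3)
    (hzK : z ∈ K) : H ≤ K := by
  have h3 : ∀ w : ↥H, e w * e w * e w = 1 → (w : A) ∈ K := by
    intro w hw
    by_cases hw1 : e w = 1
    · rw [e.map_eq_one_iff] at hw1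
      rw [hw1]; exact one_mem K
    have hz3 : e ⟨z, hzH⟩ * e ⟨z, hzH⟩ * e ⟨z, hzH⟩ = 1 := by
      rw [← map_mul, ← map_mul, e.map_eq_one_iff]
      apply Subtype.ext
      show z * z * z = 1
      rw [← pow_two, ← pow_succ]; exact orderOf_dvd_iff_pow_eq_one.1 hz.dvd
    have hz1 : e ⟨z, hzH⟩ ≠ 1 := fun e' => by
      rw [e.map_eq_one_iff, Subtype.ext_iff] at e'
      rw [show z = 1 from e', orderOf_one] at hz; omega
    obtain ⟨c, hc⟩ := model_three_conj _ _ hz3 hz1 hw hw1
    rcases hc with hc | hc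
    · have : w = e.symm c * ⟨z, hzH⟩ * (e.symm c)⁻¹ := e.injective (by simp [hc])
      rw [this]; exact hK _ (e.symm c).2 _ hzK
    · have : w = e.symm c * ⟨z, hzH⟩⁻¹ * (e.symm c)⁻¹ := e.injective (by simp [hc])
      rw [this]; exact hK _ (e.symm c).2 _ (inv_mem hzK)
  intro x hx
  obtain ⟨u, w, hu, hw, hxe⟩ := model_three_gen (e ⟨x, hx⟩)
  have hx' : (⟨x, hx⟩ : ↥H) = e.symm u * e.symm w := e.injective (by simp [hxe])
  rw [show x = ((e.symm u * e.symm w : ↥H) : A) from congrArg Subtype.val hx', Subgroup.coe_mul]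
  exact mul_mem (h3 _ (by simpa using hu)) (h3 _ (by simpa using hw))

/-- A group of order 324 with a copy of `A₄` inverts none of its elements of order three. -/
theorem no_inverter [Finite A] (hA : Nat.card A = 324) (H : Subgroup A) (e : ↥H ≃* Alt4) {z g : A}
    (hzH : z ∈ H) (hz : orderOf z = 3) (hg : g * z * g⁻¹ = z⁻¹) : False := by
  classical
  haveI : Fact (Nat.Prime 3) := ⟨by norm_num⟩
  have hH : Nat.card H = 12 := card_of_iso e
  obtain ⟨P⟩ : Nonempty (Sylow 3 A) := inferInstance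
  have hP : Nat.card (P : Subgroup A) = 81 := by
    rw [P.card_eq_multiplicity, hA, show (324 : ℕ) = 3 ^ 4 * 4 by norm_num,
      Nat.factorization_mul (by norm_num) (by norm_num), Finsupp.add_apply,
      Nat.factorization_pow_self (by norm_num : Nat.Prime 3),
      Nat.factorization_eq_zero_of_not_dvd (by norm_num)]
    norm_num
  have hidx : (P : Subgroup A).index = 4 := by
    have := (P : Subgroup A).card_mul_index
    rw [hP, hA] at this
    omega
  have hn : Nat.card (Sylow 3 A) = 4 := by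
    have hd : Nat.card (Sylow 3 A) ∣ 4 := hidx ▸ P.card_dvd_index
    have hm : Nat.card (Sylow 3 A) % 3 = 1 := card_sylow_modEq_one 3 A
    have hle := Nat.le_of_dvd (by norm_num) hd
    by_contra hne
    have h1 : Nat.card (Sylow 3 A) = 1 := by omega
    haveI := (Nat.card_eq_one_iff_unique.1 h1).1
    have hzP : z ∈ (P : Subgroup A) := by
      obtain ⟨Q, hQ⟩ := (IsPGroup.of_card (n := 1) (by rw [Nat.card_zpowers, hz, pow_one]) :
        IsPGroup 3 (Subgroup.zpowers z)).exists_le_sylow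
      rw [Subsingleton.elim P Q]
      exact hQ (Subgroup.mem_zpowers z)
    have hle' : H ≤ (P : Subgroup A) := le_of_three H e (fun c _ k hk =>
      (P.normal_of_subsingleton).conj_mem k hk c) hzH hz hzP
    have := Subgroup.card_dvd_of_le hle'
    rw [hH, hP] at this
    norm_num at this
  set φ := MulAction.toPermHom A (Sylow 3 A) with hφ
  have hr : Nat.card φ.range ∣ 24 := by
    have := Subgroup.card_subgroup_dvd_card φ.range
    rwa [Nat.card_perm, hn] at this
  have hki : Nat.card φ.ker * Nat.card φ.range = 324 := by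
    rw [← Subgroup.index_ker, Subgroup.card_mul_index, hA]
  have h4 : 4 ∣ Nat.card φ.range := by
    have h1 : φ.ker ≤ stabilizer A P := fun x hx => Equiv.ext_iff.1 (MonoidHom.mem_ker.1 hx) P
    have h2 := Subgroup.index_dvd_of_le h1
    rwa [Subgroup.index_ker, index_stabilizer_of_transitive A P, hn] at h2
  by_cases hzK : z ∈ φ.ker
  · have := Subgroup.card_dvd_of_le (le_of_three H e (fun c _ k hk =>
      (MonoidHom.normal_ker φ).conj_mem k hk c) hzH hz hzK)
    rw [hH] at this
    obtain ⟨k, hk⟩ := this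
    obtain ⟨r, hr'⟩ := h4
    rw [hk, hr'] at hki
    rw [hr'] at hr
    have : (k * r) * 48 = 324 := by rw [← hki]; ring
    omega
  have hy : orderOf (φ z) = 3 := orderOf_eq_prime
    (by rw [← map_pow, orderOf_dvd_iff_pow_eq_one.1 hz.dvd, map_one]) hzK
  have h3 : 3 ∣ Nat.card φ.range := hy.symm.dvd.trans (Subgroup.orderOf_dvd_natCard φ.range (MonoidHom.mem_range.2 ⟨z, rfl⟩))
  have h12 : Nat.card φ.range = 12 := by
    have h324 : Nat.card φ.range ∣ 324 := Dvd.intro_left _ hki
    have hd : Nat.card φ.range ∣ 12 := Nat.dvd_gcd hr h324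
    exact Nat.dvd_antisymm hd (Nat.Coprime.mul_dvd_of_dvd_of_dvd (by norm_num : Nat.Coprime 4 3) h4 h3)
  haveI := Fintype.ofFinite (Sylow 3 A)
  have hc4 : Fintype.card (Sylow 3 A) = 4 := by rw [← Nat.card_eq_fintype_card, hn]
  have hidx2 : φ.range.index = 2 := by
    have := φ.range.card_mul_index
    rw [h12, Nat.card_perm, hn, show Nat.factorial 4 = 24 from rfl] at this
    omega
  let f : φ.range ≃* Alt4 :=
    (MulEquiv.subgroupCongr (Equiv.Perm.eq_alternatingGroup_of_index_eq_two hidx2)).trans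
      (Equiv.altCongrHom (Fintype.equivFinOfCardEq hc4))
  refine hzK (MonoidHom.mem_ker.2 (congrArg Subtype.val (f.map_eq_one_iff.1
    (model_no_inv (f (φ.rangeRestrict g)) (f (φ.rangeRestrict z)) ?_ ?_))))
  · rw [← map_inv, ← map_mul, ← map_mul, ← map_inv, ← map_mul, ← map_mul, hg, map_inv, map_inv]
  · rw [← map_mul, ← map_mul, ← map_mul, ← map_mul, ← pow_two, ← pow_succ,
      orderOf_dvd_iff_pow_eq_one.1 hz.dvd, map_one, map_one]

end Tools

universe u w

variable {G : Type u} {Ω : Type w} [Group G] [Finite G] [MulAction G Ω] [Fintype Ω]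

theorem Hyp.six (h : Hyp G Ω) (hn : Fintype.card Ω = 6) :
    Nonempty (G ≃* ↥(alternatingGroup (Fin 6))) := by
  classical
  haveI := h.faith
  obtain ⟨a, b, hab⟩ := exists_ne_points (Ω := Ω) (by omega)
  have hG : Nat.card G = 360 := by rw [h.card_group hab, hn]
  have hinj : Function.Injective (MulAction.toPermHom G Ω) := MulAction.toPerm_injective
  set f := MulAction.toPermHom G Ω
  have hidx : f.range.index = 2 := by
    have := f.range.card_mul_index
    rw [Nat.card_congr (MonoidHom.ofInjective hinj).symm.toEquiv, hG, Nat.card_perm,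
      Nat.card_eq_fintype_card (α := Ω), hn, show Nat.factorial 6 = 720 from rfl] at this
    omega
  exact ⟨((MonoidHom.ofInjective hinj).trans
    (MulEquiv.subgroupCongr (Equiv.Perm.eq_alternatingGroup_of_index_eq_two hidx))).trans
    (Equiv.altCongrHom ((Fintype.equivFinOfCardEq hn)))⟩

namespace Base

variable (h : Hyp G Ω) (B : Base G Ω)
include h

/-- An element of order three inverted by the outer swapper. -/
theorem exists_three_inverted {s : G} (hD : B.Outer s) :
    ∃ z : G, z • B.a = B.a ∧ z • B.b = B.b ∧ orderOf z = 3 ∧ s * z * s⁻¹ = z⁻¹ := by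
  classical
  obtain ⟨eH'⟩ := h.stab B.a B.b B.hab
  let eH : ↥B.H ≃* Alt4 := eH'
  have hsi : s⁻¹ = s := inv_eq_self hD.swap.1
  have hss := mul_self_of_order_two hD.swap.1
  have hmem : ∀ x : ↥B.H, s * x.1 * s⁻¹ ∈ B.H := fun x => by
    obtain ⟨-, hsa, hsb⟩ := hD.swap
    refine ⟨?_, ?_⟩
    · show (s * x.1 * s⁻¹) • B.a = B.a
      rw [mul_smul, mul_smul, hsi, hsa, (B.fix_of_mem h x.2).2, hsb]
    · show (s * x.1 * s⁻¹) • B.b = B.b
      rw [mul_smul, mul_smul, hsi, hsb, (B.fix_of_mem h x.2).1, hsa]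
  let σ : ↥B.H ≃* ↥B.H :=
    { toFun := fun x => ⟨s * x.1 * s⁻¹, hmem x⟩
      invFun := fun x => ⟨s * x.1 * s⁻¹, hmem x⟩
      left_inv := fun x => Subtype.ext (by
        show s * (s * x.1 * s⁻¹) * s⁻¹ = x.1
        rw [hsi, show s * (s * x.1 * s) * s = (s * s) * x.1 * (s * s) by group, hss, one_mul, mul_one])
      right_inv := fun x => Subtype.ext (by
        show s * (s * x.1 * s⁻¹) * s⁻¹ = x.1
        rw [hsi, show s * (s * x.1 * s) * s = (s * s) * x.1 * (s * s) by group, hss, one_mul, mul_one])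
      map_mul' := fun x y => Subtype.ext (by simp [mul_assoc]) }
  let tH : ↥B.H := ⟨B.t, B.hta, B.htb⟩
  let vH : ↥B.H := ⟨B.v, B.hva, B.hvb⟩
  have ht2 : tH * tH = 1 := Subtype.ext (mul_self_of_order_two B.ht)
  have hv2 : vH * vH = 1 := Subtype.ext (mul_self_of_order_two B.hv)
  obtain ⟨h6, -⟩ := aut_swap_iso eH σ ht2 (fun e => ne_one_of_order_two B.ht (congrArg Subtype.val e))
    hv2 (fun e => ne_one_of_order_two B.hv (congrArg Subtype.val e))
    (fun e => B.hne (congrArg Subtype.val e)) (Subtype.ext (mul_inv_eq_iff_eq_mul.2 hD.comm.eq))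
    (Subtype.ext hD.moves) (fun z => σ.left_inv z)
  have h4 := card_sq_one_iso eH
  obtain ⟨z, hz, hzz⟩ : ∃ z : ↥B.H, σ z = z⁻¹ ∧ z * z ≠ 1 := by
    by_contra hno
    push Not at hno
    have := Nat.card_le_card_of_injective
      (fun z : {z : ↥B.H // σ z = z⁻¹} => (⟨z.1, hno z.1 z.2⟩ : {z : ↥B.H // z * z = 1}))
      (fun z w e => Subtype.ext (congrArg (fun q : {z : ↥B.H // z * z = 1} => q.1) e))
    have e1 : Nat.card {z : ↥B.H // σ z = z⁻¹} = 6 := h6
    omega
  refine ⟨z.1, (B.fix_of_mem h z.2).1, (B.fix_of_mem h z.2).2, ?_, congrArg Subtype.val hz⟩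
  have h3 : ∀ w : Alt4, w * w ≠ 1 → w * w * w = 1 := by decide +kernel
  refine orderOf_eq_prime ?_ fun e => hzz (by
    rw [show z = 1 from Subtype.ext e, one_mul])
  have := h3 (eH z) (by rw [← map_mul, Ne, eH.map_eq_one_iff]; exact hzz)
  rw [← map_mul, ← map_mul, eH.map_eq_one_iff] at this
  rw [pow_succ, pow_two]
  exact congrArg Subtype.val this

/-- Each element of order three fixing two points is inverted by an element exchanging them. -/
theorem exists_inverting_swap {s : G} (hD : B.Outer s) {c d : Ω} (hcd : c ≠ d) {x : G}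
    (hx : orderOf x = 3) (hxc : x • c = c) (hxd : x • d = d) :
    ∃ g : G, g • c = d ∧ g • d = c ∧ g * x * g⁻¹ = x⁻¹ := by
  obtain ⟨z, hza, hzb, hz, hsz⟩ := B.exists_three_inverted h hD
  obtain ⟨q, hqa, hqb⟩ := exists_smul_pair h.two B.hab hcd
  obtain ⟨eH⟩ := h.stab B.a B.b B.hab
  have hx' : orderOf (q⁻¹ * x * q) = 3 := by
    have := orderOf_injective (MulAut.conj q⁻¹).toMonoidHom (MulEquiv.injective _) x
    simpa [hx] using this
  have hcube : ∀ {y : G} (hy : orderOf y = 3) (hyH : y ∈ stabilizer G B.a ⊓ stabilizer G B.b),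
      eH ⟨y, hyH⟩ * eH ⟨y, hyH⟩ * eH ⟨y, hyH⟩ = 1 ∧ eH ⟨y, hyH⟩ ≠ 1 := by
    intro y hy hyH
    constructor
    · rw [← map_mul, ← map_mul, eH.map_eq_one_iff]
      apply Subtype.ext
      show y * y * y = 1
      rw [← pow_two, ← pow_succ]; exact orderOf_dvd_iff_pow_eq_one.1 hy.dvd
    · intro e
      rw [eH.map_eq_one_iff, Subtype.ext_iff] at e
      rw [show y = 1 from e, orderOf_one] at hy; omega
  have hzH : z ∈ stabilizer G B.a ⊓ stabilizer G B.b := ⟨hza, hzb⟩
  have hxH : q⁻¹ * x * q ∈ stabilizer G B.a ⊓ stabilizer G B.b :=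
    ⟨show (q⁻¹ * x * q) • B.a = B.a by rw [mul_smul, mul_smul, hqa, hxc, inv_smul_eq_iff, hqa],
      show (q⁻¹ * x * q) • B.b = B.b by rw [mul_smul, mul_smul, hqb, hxd, inv_smul_eq_iff, hqb]⟩
  obtain ⟨c0, hc0⟩ := model_three_conj _ _ (hcube hz hzH).1 (hcube hz hzH).2 (hcube hx' hxH).1
    (hcube hx' hxH).2
  set k := (eH.symm c0 : ↥(stabilizer G B.a ⊓ stabilizer G B.b)) with hk
  have hk' : (k : G) * z * (k : G)⁻¹ = q⁻¹ * x * q ∨ (k : G) * z⁻¹ * (k : G)⁻¹ = q⁻¹ * x * q := by
    rcases hc0 with e | e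
    · left
      have : k * ⟨z, hzH⟩ * k⁻¹ = ⟨q⁻¹ * x * q, hxH⟩ := eH.injective (by simp [hk, e])
      exact congrArg Subtype.val this
    · right
      have : k * ⟨z, hzH⟩⁻¹ * k⁻¹ = ⟨q⁻¹ * x * q, hxH⟩ := eH.injective (by simp [hk, e])
      exact congrArg Subtype.val this
  obtain ⟨-, hsa, hsb⟩ := hD.swap
  have hka : (k : G) • B.a = B.a := k.2.1
  have hkb : (k : G) • B.b = B.b := k.2.2
  have hkai : (k : G)⁻¹ • B.a = B.a := inv_smul_eq_iff.2 hka.symm
  have hkbi : (k : G)⁻¹ • B.b = B.b := inv_smul_eq_iff.2 hkb.symm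
  refine ⟨q * k * s * (k : G)⁻¹ * q⁻¹, ?_, ?_, ?_⟩
  · rw [← hqa, mul_smul, inv_smul_smul, mul_smul, mul_smul, mul_smul, hkai, hsa, hkb, hqb]
  · rw [← hqb, mul_smul, inv_smul_smul, mul_smul, mul_smul, mul_smul, hkbi, hsb, hka, hqa]
  · have hsz' : s * z⁻¹ * s⁻¹ = z := by rw [← conj_inv, hsz, inv_inv]
    rcases hk' with e | e
    · have hxe : x = q * ((k : G) * z * (k : G)⁻¹) * q⁻¹ := by rw [e]; group
      calc q * k * s * (k : G)⁻¹ * q⁻¹ * x * (q * k * s * (k : G)⁻¹ * q⁻¹)⁻¹
          = q * k * (s * z * s⁻¹) * (k : G)⁻¹ * q⁻¹ := by rw [hxe]; group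
        _ = x⁻¹ := by rw [hsz, hxe]; group
    · have hxe : x = q * ((k : G) * z⁻¹ * (k : G)⁻¹) * q⁻¹ := by rw [e]; group
      calc q * k * s * (k : G)⁻¹ * q⁻¹ * x * (q * k * s * (k : G)⁻¹ * q⁻¹)⁻¹
          = q * k * (s * z⁻¹ * s⁻¹) * (k : G)⁻¹ * q⁻¹ := by rw [hxe]; group
        _ = x⁻¹ := by rw [hsz', hxe]; group

/-- With a symmetric set stabiliser all involutions are conjugate. -/
theorem Outer.isConj_invol {s : G} (hD : B.Outer s) {x : G} (hx : orderOf x = 2) : IsConj B.t x := by
  obtain ⟨c, hc⟩ : ∃ c : Ω, x • c ≠ c := by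
    by_contra hno
    push Not at hno
    exact ne_one_of_order_two hx (h.eq_one_of_fix hno)
  obtain ⟨g, hga, hgb⟩ := exists_smul_pair h.two B.hab (Ne.symm hc)
  refine (hD.all (g⁻¹ * x * g) ⟨?_, ?_, ?_⟩).trans (isConj_iff.2 ⟨g, by group⟩)
  · simpa using orderOf_conj_two g⁻¹ hx
  · rw [mul_smul, mul_smul, hga, ← hgb, inv_smul_smul]
  · rw [mul_smul, mul_smul, hgb, ← mul_smul x, mul_self_of_order_two hx, one_smul, ← hga, inv_smul_smul]

theorem exists_outer (he : B.e = 6) : ∃ s, B.Outer s := by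
  rcases B.swap_cases h with ⟨u, -, h'⟩ | ⟨s, hs, -⟩
  · rcases h' with ⟨r, -⟩ | ⟨r, -⟩ | ⟨r, -⟩ <;> omega
  · exact ⟨s, hs⟩

end Base

theorem Hyp.twentyEight_false (h : Hyp G Ω) (B : Base G Ω) (hn : Fintype.card Ω = 28) (he : B.e = 6) :
    False := by
  classical
  obtain ⟨s, hD⟩ := B.exists_outer h he
  obtain ⟨z, hza, hzb, hz, -⟩ := B.exists_three_inverted h hD
  haveI : Fact (Nat.Prime 3) := ⟨by norm_num⟩
  obtain ⟨c, hzc, hca, hcb⟩ : ∃ c : Ω, z • c = c ∧ c ≠ B.a ∧ c ≠ B.b := by
    by_contra hno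
    push Not at hno
    have hmod := (IsPGroup.of_card (n := 1) (by rw [Nat.card_zpowers, hz, pow_one]) :
      IsPGroup 3 (Subgroup.zpowers z)).card_modEq_card_fixedPoints Ω
    have hfix : fixedPoints (Subgroup.zpowers z) Ω = {B.a, B.b} := by
      ext x
      simp only [Set.mem_insert_iff, Set.mem_singleton_iff, mem_fixedPoints]
      constructor
      · intro hx
        have : z • x = x := hx ⟨z, Subgroup.mem_zpowers z⟩
        by_cases hxa : x = B.a
        · exact Or.inl hxa
        · exact Or.inr (hno x this hxa)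
      · rintro (rfl | rfl) ⟨y, hy⟩
        · exact (Subgroup.zpowers_le.2 (show z ∈ stabilizer G B.a from hza)) hy
        · exact (Subgroup.zpowers_le.2 (show z ∈ stabilizer G B.b from hzb)) hy
    rw [Nat.card_eq_fintype_card, hn, hfix, Nat.card_coe_set_eq, Set.ncard_pair B.hab] at hmod
    exact absurd hmod (by decide)
  obtain ⟨g1, g1a, -, g1z⟩ := B.exists_inverting_swap h hD B.hab hz hza hzb
  obtain ⟨g2, -, g2c, g2z⟩ := B.exists_inverting_swap h hD (Ne.symm hcb) hz hzb hzc
  obtain ⟨g3, g3a, g3c, g3z⟩ := B.exists_inverting_swap h hD (Ne.symm hca) hz hza hzc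
  obtain ⟨g4, g4a, g4b, g4z⟩ := B.exists_inverting_swap h hD B.hab.symm hz hzb hza
  set g := g3 * g4 * g2 with hg
  have hgc : g • c = c := by rw [hg, mul_smul, mul_smul, g2c, g4a, g3a]
  have hgz : g * z * g⁻¹ = z⁻¹ := by
    calc g * z * g⁻¹ = g3 * (g4 * (g2 * z * g2⁻¹) * g4⁻¹) * g3⁻¹ := by rw [hg]; group
      _ = g3 * z * g3⁻¹ := by rw [g2z, ← conj_inv, g4z, inv_inv]
      _ = z⁻¹ := g3z
  obtain ⟨eC⟩ := h.stab c B.a hca
  refine no_inverter (A := ↥(stabilizer G c)) (by rw [h.card_stab hca, hn])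
    ((stabilizer G B.a).subgroupOf (stabilizer G c))
    (((MulEquiv.subgroupCongr (Subgroup.inf_subgroupOf_left _ _).symm).trans
      (Subgroup.subgroupOfEquivOfLe inf_le_left)).trans eC)
    (z := ⟨z, hzc⟩) (g := ⟨g, hgc⟩) hza ?_ (Subtype.ext hgz)
  rw [← Subgroup.orderOf_coe]; exact hz

theorem Hyp.isSimple_fifteen (h : Hyp G Ω) (B : Base G Ω) (hn : Fintype.card Ω = 15) (he : B.e = 6)
    (hm : B.m = 3) : IsSimpleGroup G := by
  classical
  haveI := h.faith
  haveI := h.two
  haveI := h.pretrans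
  haveI := isPreprimitive_of_is_two_pretransitive (G := G) (α := Ω) h.two
  obtain ⟨s, hD⟩ := B.exists_outer h he
  obtain ⟨z, hza, hzb, hz, hsz⟩ := B.exists_three_inverted h hD
  obtain ⟨eH⟩ := h.stab B.a B.b B.hab
  have hG : Nat.card G = 2520 := by rw [h.card_group B.hab, hn]
  haveI : Nontrivial G := Finite.one_lt_card_iff_nontrivial.1 (by rw [hG]; norm_num)
  refine ⟨fun N hN => ?_⟩
  by_cases hbot : N = ⊥
  · exact Or.inl hbot
  right
  haveI := CfsgLib.Perm.normal_isPretransitive (G := G) (α := Ω) hbot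
  set H := stabilizer G B.a ⊓ stabilizer G B.b
  set Na := N ⊓ stabilizer G B.a
  have hN15 : Nat.card N = 15 * Nat.card Na := by
    rw [CfsgLib.Perm.natCard_eq_mul_stabilizer (G := N) B.a, Nat.card_eq_fintype_card (α := Ω), hn]
    congr 1
    refine Nat.card_congr ⟨fun x => ⟨x.1.1, x.1.2, x.2⟩, fun x => ⟨⟨x.1, x.2.1⟩, x.2.2⟩,
      fun x => rfl, fun x => rfl⟩
  have hNa168 : Nat.card Na ∣ 168 := by
    have h' := Subgroup.card_dvd_of_le (inf_le_right : Na ≤ stabilizer G B.a)
    rwa [h.card_stab B.hab, hn] at h'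
  have horb : Nat.card Na = (orbit Na B.b).ncard * Nat.card ↥(N ⊓ H) := by
    rw [← index_stabilizer Na B.b, mul_comm, ← Subgroup.card_mul_index (stabilizer Na B.b)]
    congr 1
    exact Nat.card_congr ⟨fun x => ⟨x.1.1, x.1.2.1, x.1.2.2, x.2⟩,
      fun x => ⟨⟨x.1, x.2.1, x.2.2.1⟩, x.2.2.2⟩, fun x => rfl, fun x => rfl⟩
  rcases Nat.even_or_odd (Nat.card N) with hev | hod
  · -- even order: the set stabiliser lies in the normal subgroup
    haveI : Fact (Nat.Prime 2) := ⟨Nat.prime_two⟩
    obtain ⟨⟨x, hx⟩, hxo⟩ := exists_prime_orderOf_dvd_card' (G := N) 2 (even_iff_two_dvd.1 hev)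
    rw [Subgroup.orderOf_mk] at hxo
    have hinv : ∀ y : G, orderOf y = 2 → y ∈ N := fun y hy => by
      obtain ⟨g, rfl⟩ := isConj_iff.1 ((hD.isConj_invol h B hxo).symm.trans (hD.isConj_invol h B hy))
      exact hN.conj_mem x hx g
    have hsN : s ∈ N := hinv s hD.swap.1
    have hzN : z ∈ N := by
      have h2 : orderOf (s * z) = 2 := by
        refine order_two ?_ fun e => B.hab ?_
        · calc s * z * (s * z) = s * z * s⁻¹ * z * (s * s) := by
                rw [inv_eq_self hD.swap.1, mul_self_of_order_two hD.swap.1]; group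
            _ = 1 := by rw [hsz, inv_mul_cancel, one_mul, mul_self_of_order_two hD.swap.1]
        · have h' := congrArg (fun g : G => g • B.a) e
          simp only [mul_smul, hza, hD.swap.2.1, one_smul] at h'
          exact h'.symm
      have := N.mul_mem (N.inv_mem hsN) (hinv _ h2)
      simpa using this
    have hHN : H ≤ N := le_of_three H eH (fun c _ k hk => hN.conj_mem k hk c) ⟨hza, hzb⟩ hz hzN
    have hH12 : Nat.card H = 12 := h.card_pair_stab B.hab
    have hsn : Subgroup.zpowers s ≤ Subgroup.normalizer (H : Set G) := by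
      rw [Subgroup.zpowers_le]
      refine CfsgLib.Invol.mem_normalizer_iff_of_finite fun y hy => ?_
      obtain ⟨-, hsa, hsb⟩ := hD.swap
      have hsi : s⁻¹ = s := inv_eq_self hD.swap.1
      exact ⟨show (s * y * s⁻¹) • B.a = B.a by
          rw [mul_smul, mul_smul, hsi, hsa, (hy.2 : y • B.b = B.b), hsb],
        show (s * y * s⁻¹) • B.b = B.b by
          rw [mul_smul, mul_smul, hsi, hsb, (hy.1 : y • B.a = B.a), hsa]⟩
    have hsd : H ⊓ Subgroup.zpowers s = ⊥ := by
      rw [Subgroup.eq_bot_iff_forall]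
      rintro y ⟨hy, hy'⟩
      obtain ⟨i, rfl⟩ := Subgroup.mem_zpowers_iff.1 hy'
      rcases Int.even_or_odd' i with ⟨r, rfl | rfl⟩
      · rw [zpow_mul, zpow_ofNat, pow_two, mul_self_of_order_two hD.swap.1, one_zpow]
      · exfalso
        have e' : (s ^ (2 * r + 1)) • B.a = B.a := hy.1
        rw [zpow_add, zpow_mul, zpow_ofNat, pow_two, mul_self_of_order_two hD.swap.1, one_zpow,
          one_mul, zpow_one, hD.swap.2.1] at e'
        exact B.hab e'.symm
    have h24 : 24 ∣ Nat.card N := by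
      have h' := Subgroup.card_dvd_of_le (sup_le hHN (Subgroup.zpowers_le.2 hsN))
      rwa [card_sup_disj hsn hsd, hH12, Nat.card_zpowers, hD.swap.1] at h'
    rw [inf_eq_right.2 hHN, hH12] at horb
    set o := (orbit Na B.b).ncard with ho
    have ho14 : o ∣ 14 := by
      rw [horb] at hNa168
      exact Nat.dvd_of_mul_dvd_mul_right (by norm_num : 0 < 12) hNa168
    rw [hN15, horb] at h24
    have hoev : 2 ∣ o := by omega
    have ho' : o = 2 ∨ o = 14 := by
      have h' : o ∈ Nat.divisors 14 := Nat.mem_divisors.2 ⟨ho14, by norm_num⟩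
      rw [show Nat.divisors 14 = {1, 2, 7, 14} by decide] at h'
      simp only [Finset.mem_insert, Finset.mem_singleton] at h'
      omega
    rcases ho' with ho' | ho'
    · -- orbits of length two: squares act trivially
      exfalso
      have hsq : ∀ (y : G), y ∈ Na → ∀ c : Ω, (y * y) • c = c := by
        intro y hy c
        by_cases hca : c = B.a
        · rw [hca, mul_smul, (hy.2 : y • B.a = B.a), (hy.2 : y • B.a = B.a)]
        obtain ⟨g, hga, hgb⟩ := exists_smul_pair h.two B.hab (Ne.symm hca)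
        have hy' : g⁻¹ * y * g ∈ Na := ⟨by simpa using hN.conj_mem y hy.1 g⁻¹,
          show (g⁻¹ * y * g) • B.a = B.a by
            rw [mul_smul, mul_smul, hga, (hy.2 : y • B.a = B.a), inv_smul_eq_iff, hga]⟩
        have h2 : (g⁻¹ * y * g) • (g⁻¹ * y * g) • B.b = B.b := by
          have hmem : ∀ w ∈ orbit Na B.b, (g⁻¹ * y * g) • w ∈ orbit Na B.b := by
            rintro w ⟨⟨n, hn'⟩, rfl⟩
            exact ⟨⟨_, Na.mul_mem hy' hn'⟩, mul_smul _ _ _⟩
          by_contra hne
          set p := g⁻¹ * y * g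
          by_cases hp : p • B.b = B.b
          · exact hne (by rw [hp, hp])
          have hsub : ({B.b, p • B.b, p • p • B.b} : Set Ω) ⊆ orbit Na B.b := by
            refine Set.insert_subset (mem_orbit_self _) (Set.insert_subset ?_ ?_)
            · exact hmem _ (mem_orbit_self _)
            · exact Set.singleton_subset_iff.2 (hmem _ (hmem _ (mem_orbit_self _)))
          have h3 := Set.ncard_le_ncard hsub (Set.toFinite _)
          rw [← ho, ho', Set.ncard_insert_of_notMem, Set.ncard_pair] at h3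
          · omega
          · intro e'
            exact hp (MulAction.injective p e'.symm)
          · simp only [Set.mem_insert_iff, Set.mem_singleton_iff, not_or]
            exact ⟨Ne.symm hp, Ne.symm hne⟩
        rw [← hgb, ← mul_smul, show y * y * g = g * ((g⁻¹ * y * g) * (g⁻¹ * y * g)) by group,
          mul_smul, mul_smul, h2]
      have := h.eq_one_of_fix (hsq z ⟨hzN, hza⟩)
      rw [← pow_two, ← orderOf_dvd_iff_pow_eq_one, hz] at this
      norm_num at this
    · rw [← Subgroup.card_eq_iff_eq_top, hN15, horb, ho', hG]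
  · -- odd order: regular of order fifteen, impossible
    exfalso
    obtain ⟨g, hg3, hgv, -, -⟩ := exists_three eH (x := (⟨B.v, B.hva, B.hvb⟩ : ↥H))
      (y := ⟨B.t * B.v, show (B.t * B.v) • B.a = B.a by rw [mul_smul, B.hva, B.hta],
        show (B.t * B.v) • B.b = B.b by rw [mul_smul, B.hvb, B.htb]⟩)
      (Subtype.ext (mul_self_of_order_two B.hv))
      (fun e => ne_one_of_order_two B.hv (congrArg Subtype.val e))
      (Subtype.ext (mul_self_of_order_two B.orderOf_tv))
      (fun e => B.tv_ne_one (congrArg Subtype.val e))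
      (fun e => ne_one_of_order_two B.ht (mul_eq_right.1 (congrArg Subtype.val e).symm))
    have hgv' : (g : G) * B.v * (g : G)⁻¹ = B.t * B.v := congrArg Subtype.val hgv
    have htc : (g : G) * B.v * (g : G)⁻¹ * B.v = B.t := by
      rw [hgv', mul_assoc, mul_self_of_order_two B.hv, mul_one]
    have hodd : ∀ y ∈ N, Odd (orderOf y) := fun y hy =>
      hod.of_dvd_nat (Subgroup.orderOf_dvd_natCard N hy)
    have hone : ∀ y ∈ N, y * y = 1 → y = 1 := fun y hy hyy => by
      rcases (Nat.dvd_prime Nat.prime_two).1 (orderOf_dvd_of_pow_eq_one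
        (show y ^ 2 = 1 by rw [pow_two]; exact hyy)) with e | e
      · exact orderOf_eq_one_iff.1 e
      · exact absurd (hodd y hy) (by rw [e]; decide)
    have hNH : N ⊓ H = ⊥ := by
      rw [Subgroup.eq_bot_iff_forall]
      rintro y ⟨hy, hyH⟩
      have h1 : y * B.t * y⁻¹ * B.t = 1 := by
        refine hone _ ?_ ?_
        · have := N.mul_mem hy (hN.conj_mem _ (N.inv_mem hy) B.t)
          rw [inv_eq_self B.ht] at this
          simpa [mul_assoc] using this
        · have hc : (⟨y, hyH⟩ : ↥H) * ⟨B.t, B.hta, B.htb⟩ * ⟨y, hyH⟩⁻¹ * ⟨B.t, B.hta, B.htb⟩ =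
              ⟨B.t, B.hta, B.htb⟩ * (⟨y, hyH⟩ * ⟨B.t, B.hta, B.htb⟩ * ⟨y, hyH⟩⁻¹) :=
            invol_comm eH (by
              have ht2 : (⟨B.t, B.hta, B.htb⟩ : ↥H) * ⟨B.t, B.hta, B.htb⟩ = 1 :=
                Subtype.ext (mul_self_of_order_two B.ht)
              rw [show ∀ p q : ↥H, p * q * p⁻¹ * (p * q * p⁻¹) = p * (q * q) * p⁻¹ from
                fun p q => by group, ht2, mul_one, mul_inv_cancel])
              (Subtype.ext (mul_self_of_order_two B.ht))
          have hc' : y * B.t * y⁻¹ * B.t = B.t * (y * B.t * y⁻¹) := congrArg Subtype.val hc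
          calc y * B.t * y⁻¹ * B.t * (y * B.t * y⁻¹ * B.t)
              = y * B.t * y⁻¹ * (B.t * (y * B.t * y⁻¹)) * B.t := by group
            _ = y * B.t * y⁻¹ * (y * B.t * y⁻¹) * (B.t * B.t) := by rw [← hc']; group
            _ = y * (B.t * B.t) * y⁻¹ * (B.t * B.t) := by group
            _ = 1 := by rw [mul_self_of_order_two B.ht]; group
      have h2 : Commute y B.t := by
        rw [mul_eq_one_iff_eq_inv, inv_eq_self B.ht, mul_inv_eq_iff_eq_mul] at h1
        exact h1
      rcases B.cases_of_fix h B.hab B.hta B.htb B.hva B.hvb hyH.1 hyH.2 h2 with r | r | r | r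
      · exact r
      all_goals
        exfalso
        have hy1 : y ≠ 1 := by
          rw [r]
          first
            | exact ne_one_of_order_two B.ht
            | exact ne_one_of_order_two B.hv
            | exact B.tv_ne_one
        refine hy1 (hone y hy ?_)
        rw [r]
        first
          | exact mul_self_of_order_two B.ht
          | exact mul_self_of_order_two B.hv
          | exact mul_self_of_order_two B.orderOf_tv
    rw [hNH, Subgroup.card_bot, mul_one] at horb
    have hle : Nat.card Na ≤ 15 := by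
      rw [horb, ← hn, ← Nat.card_eq_fintype_card, ← Set.ncard_univ]
      exact Set.ncard_le_ncard (Set.subset_univ _) (Set.toFinite _)
    have hNodd : Odd (Nat.card Na) := hod.of_dvd_nat (Subgroup.card_dvd_of_le inf_le_left)
    by_cases h1 : Nat.card Na = 1
    · -- the Sylow subgroup of order five
      haveI : Fact (Nat.Prime 5) := ⟨by norm_num⟩
      rw [h1, mul_one] at hN15
      obtain ⟨P⟩ : Nonempty (Sylow 5 N) := inferInstance
      have hP : Nat.card (P : Subgroup N) = 5 := by
        rw [P.card_eq_multiplicity, hN15, show (15 : ℕ) = 5 * 3 by norm_num,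
          Nat.factorization_mul (by norm_num) (by norm_num), Finsupp.add_apply,
          Nat.Prime.factorization_self (by norm_num : Nat.Prime 5),
          Nat.factorization_eq_zero_of_not_dvd (by norm_num)]
        norm_num
      have hidx : (P : Subgroup N).index = 3 := by
        have := (P : Subgroup N).card_mul_index
        rw [hP, hN15] at this
        omega
      have hu : Nat.card (Sylow 5 N) = 1 := by
        have hd : Nat.card (Sylow 5 N) ∣ 3 := hidx ▸ P.card_dvd_index
        have hm' : Nat.card (Sylow 5 N) % 5 = 1 := card_sylow_modEq_one 5 N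
        have := Nat.le_of_dvd (by norm_num) hd
        omega
      haveI := (Nat.card_eq_one_iff_unique.1 hu).1
      haveI := P.normal_of_subsingleton
      haveI := P.characteristic_of_normal inferInstance
      set Q := (P : Subgroup N).map N.subtype with hQ
      haveI : Q.Normal := ConjAct.normal_of_characteristic_of_normal
      have hQc : Nat.card Q = 5 := by
        rw [hQ, Subgroup.card_map_of_injective N.subtype_injective, hP]
      have hQb : Q ≠ ⊥ := fun e => by rw [e, Subgroup.card_bot] at hQc; omega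
      haveI := CfsgLib.Perm.normal_isPretransitive (G := G) (α := Ω) hQb
      have h' := CfsgLib.Perm.natCard_eq_mul_stabilizer (G := Q) B.a
      rw [hQc, Nat.card_eq_fintype_card (α := Ω), hn] at h'
      omega
    -- the point stabiliser is cyclic of prime order and centralises `t`
    have hp : (Nat.card Na).Prime := by
      obtain ⟨r, hr⟩ := hNodd
      interval_cases hc : Nat.card Na <;> first | (norm_num; done) | (norm_num at hNa168; done) | omega
    haveI : Fact (Nat.card Na).Prime := ⟨hp⟩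
    haveI : IsCyclic Na := isCyclic_of_prime_card rfl
    have hconj : ∀ c : G, c • B.a = B.a → ∀ y ∈ Na, c * y * c⁻¹ ∈ Na := fun c hc y hy =>
      ⟨hN.conj_mem y hy.1 c, show (c * y * c⁻¹) • B.a = B.a by
        rw [mul_smul, mul_smul, inv_smul_eq_iff.2 hc.symm, (hy.2 : y • B.a = B.a), hc]⟩
    obtain ⟨y0, hy0⟩ := IsCyclic.exists_generator (α := Na)
    have hpow : ∀ c : G, c • B.a = B.a → ∃ i : ℤ, ∀ y ∈ Na, c * y * c⁻¹ = y ^ i := fun c hc => by
      obtain ⟨i, hi⟩ := Subgroup.mem_zpowers_iff.1 (hy0 ⟨_, hconj c hc y0.1 y0.2⟩)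
      refine ⟨i, fun y hy => ?_⟩
      obtain ⟨r, hr⟩ := Subgroup.mem_zpowers_iff.1 (hy0 ⟨y, hy⟩)
      have hi' : (y0 : G) ^ i = c * y0 * c⁻¹ := by simpa using congrArg Subtype.val hi
      have hr' : (y0 : G) ^ r = y := by simpa using congrArg Subtype.val hr
      rw [← hr', ← conj_zpow, ← hi', ← zpow_mul, ← zpow_mul, mul_comm]
    obtain ⟨i, hi⟩ := hpow g g.2.1
    obtain ⟨j, hj⟩ := hpow B.v B.hva
    have hy0one : (y0 : G) ≠ 1 := fun e => hp.ne_one (by
      rw [← orderOf_eq_card_of_forall_mem_zpowers hy0, show y0 = 1 from Subtype.ext e, orderOf_one])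
    have hct : Commute (y0 : G) B.t := by
      have e1 : B.v * y0 * B.v⁻¹ = (y0 : G) ^ j := hj _ y0.2
      have e2 : (g : G) * B.v * (g : G)⁻¹ * y0 * ((g : G) * B.v * (g : G)⁻¹)⁻¹ = (y0 : G) ^ j := by
        have e3 : (g : G)⁻¹ * y0 * g ∈ Na := by
          simpa using hconj (g : G)⁻¹ (inv_smul_eq_iff.2 g.2.1.symm) y0.1 y0.2
        calc (g : G) * B.v * (g : G)⁻¹ * y0 * ((g : G) * B.v * (g : G)⁻¹)⁻¹
            = g * (B.v * ((g : G)⁻¹ * y0 * g) * B.v⁻¹) * (g : G)⁻¹ := by group
          _ = (y0 : G) ^ j := by rw [hj _ e3, ← conj_zpow]; congr 1; group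
      refine (mul_inv_eq_iff_eq_mul.1 (?_ : B.t * y0 * B.t⁻¹ = y0)).symm
      rw [← htc]
      calc (g : G) * B.v * (g : G)⁻¹ * B.v * y0 * ((g : G) * B.v * (g : G)⁻¹ * B.v)⁻¹
          = g * B.v * (g : G)⁻¹ * (B.v * y0 * B.v⁻¹) * ((g : G) * B.v * (g : G)⁻¹)⁻¹ := by group
        _ = ((g : G) * B.v * (g : G)⁻¹ * y0 * ((g : G) * B.v * (g : G)⁻¹)⁻¹) ^ j := by
            rw [e1, conj_zpow]
        _ = y0 := by
            rw [e2, ← hj _ (Na.zpow_mem y0.2 j), ← e1, inv_eq_self B.hv]
            simp only [← mul_assoc, mul_self_of_order_two B.hv, one_mul]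
            rw [mul_assoc, mul_self_of_order_two B.hv, mul_one]
    have hFmem : ∀ x ∈ B.F, (y0 : G) • x ∈ B.F := fun x hx => by
      show B.t • (y0 : G) • x = (y0 : G) • x
      rw [← mul_smul, ← hct.eq, mul_smul, (hx : B.t • x = x)]
    have hya : (y0 : G) • B.a = B.a := y0.2.2
    have hsq : ((y0 : G) * y0) • B.b = B.b := by
      by_contra hne
      rw [mul_smul] at hne
      set p := (y0 : G)
      by_cases hp' : p • B.b = B.b
      · exact hne (by rw [hp', hp'])
      have hsub : ({B.a, B.b, p • B.b, p • p • B.b} : Set Ω) ⊆ B.F :=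
        Set.insert_subset B.ha (Set.insert_subset B.hb (Set.insert_subset (hFmem _ B.hb)
          (Set.singleton_subset_iff.2 (hFmem _ (hFmem _ B.hb)))))
      have h3 : ({B.a, B.b, p • B.b, p • p • B.b} : Set Ω).ncard ≤ 3 :=
        hm ▸ Set.ncard_le_ncard hsub (Set.toFinite _)
      have ha1 : B.a ≠ p • B.b := fun e' => B.hab (MulAction.injective p (hya.trans e'))
      have ha2 : B.a ≠ p • p • B.b := fun e' => ha1 (MulAction.injective p (hya.trans e'))
      rw [Set.ncard_insert_of_notMem, Set.ncard_insert_of_notMem, Set.ncard_pair] at h3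
      · omega
      · exact fun e' => hp' (MulAction.injective p e'.symm)
      · simp only [Set.mem_insert_iff, Set.mem_singleton_iff, not_or]
        exact ⟨Ne.symm hp', Ne.symm hne⟩
      · simp only [Set.mem_insert_iff, Set.mem_singleton_iff, not_or]
        exact ⟨B.hab, ha1, ha2⟩
    have hmemH : (y0 : G) * y0 ∈ N ⊓ H :=
      ⟨N.mul_mem y0.2.1 y0.2.1, show ((y0 : G) * y0) • B.a = B.a by rw [mul_smul, hya, hya], hsq⟩
    rw [hNH, Subgroup.mem_bot] at hmemH
    exact hy0one (hone _ y0.2.1 hmemH)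

theorem Hyp.fifteen (h : Hyp G Ω) (B : Base G Ω) (hn : Fintype.card Ω = 15) (he : B.e = 6)
    (hm : B.m = 3) : Nonempty (G ≃* ↥(alternatingGroup (Fin 7))) := by
  haveI := h.isSimple_fifteen B hn he hm
  exact Cfsg.Agent.S0984.result (by rw [h.card_group B.hab, hn])

end CfsgLib.Perm.TwoPointFour
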