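import Cfsg.Agent.Lib.Perm.TwoPointFour.Odd
import Cfsg.Agent.Lib.Perm.TwoPointFive.OddHalf

/-!
Odd degree, symmetric set stabiliser, kernel of order two: impossible by parity.
-/

set_option autoImplicit false
set_option linter.unusedSectionVars false

namespace CfsgLib.Perm.TwoPointFour

open MulAction
open CfsgLib.Perm.TwoPointFive (mul_self_of_order_two ne_one_of_order_two order_two inv_eq_self
  orderOf_conj_two Sharp HalfSharp Big fixAct even_moved invol_smul_smul card_of_pair_orbit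
  mul_self_of_order order_of_mul_self)

universe u w

variable {G : Type u} {Ω : Type w} [Group G] [Finite G] [MulAction G Ω] [Fintype Ω]

namespace Base

variable (h : Hyp G Ω) (B : Base G Ω)
include h

theorem outer_swap {s : G} (hO : B.Outer s) {g : G} (hgt : Commute g B.t) (hga : g • B.a = B.b)
    (hgb : g • B.b = B.a) : g * B.v * g⁻¹ = B.t * B.v := by
  have hs2 := mul_self_of_order_two hO.swap.1
  have hcv : (s * g) * B.v * (s * g)⁻¹ = B.v := by
    rcases B.cases_of_fix h B.hab B.hta B.htb B.hva B.hvb (g := s * g)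
      (by rw [mul_smul, hga, hO.swap.2.2]) (by rw [mul_smul, hgb, hO.swap.2.1])
      (hO.comm.mul_left hgt) with r | r | r | r <;> rw [r]
    · group
    · rw [B.hcomm.eq, mul_inv_cancel_right]
    · group
    · rw [mul_assoc B.t, mul_self_of_order_two B.hv, mul_one, inv_eq_self B.orderOf_tv,
        ← mul_assoc, mul_self_of_order_two B.ht, one_mul]
  calc g * B.v * g⁻¹ = (s * s) * g * B.v * g⁻¹ * (s * s)⁻¹ := by rw [hs2]; group
    _ = s * ((s * g) * B.v * (s * g)⁻¹) * s⁻¹ := by group
    _ = _ := by rw [hcv, hO.moves]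

/-- In the symmetric case `k (k - 1) / 2` is odd when `k` is odd. -/
theorem outer_parity {s : G} (hO : B.Outer s) (hkm : B.k < B.m) (hB : B.e = 6) :
    Odd (B.k * (B.k - 1) / 2) := by
  classical
  set C : Subgroup G := Subgroup.centralizer ({B.t, B.v} : Set G) with hC
  have hmem : ∀ g, g ∈ C ↔ Commute g B.t ∧ Commute g B.v := fun g => by
    rw [hC, Subgroup.mem_centralizer_iff]
    simp only [Set.mem_insert_iff, Set.mem_singleton_iff, forall_eq_or_imp, forall_eq]
    exact ⟨fun e => ⟨e.1.symm, e.2.symm⟩, fun e => ⟨e.1.symm, e.2.symm⟩⟩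
  -- the group normalising the four group inside the centralizer of `t`
  let N : Subgroup G :=
    { carrier := {g | Commute g B.t ∧ (g * B.v * g⁻¹ = B.v ∨ g * B.v * g⁻¹ = B.t * B.v)}
      one_mem' := ⟨Commute.one_left _, Or.inl (by group)⟩
      mul_mem' := fun {x y} hx hy => ⟨hx.1.mul_left hy.1, by
        have e2 : x * B.t * x⁻¹ = B.t := mul_inv_eq_iff_eq_mul.2 hx.1.eq
        rw [show x * y * B.v * (x * y)⁻¹ = x * (y * B.v * y⁻¹) * x⁻¹ by group]
        rcases hy.2 with r | r <;> rw [r]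
        · exact hx.2
        · rw [← conj_mul, e2]
          rcases hx.2 with r' | r' <;> rw [r']
          · exact Or.inr rfl
          · left; rw [← mul_assoc, mul_self_of_order_two B.ht, one_mul]⟩
      inv_mem' := fun {x} hx => ⟨hx.1.inv_left, by
        have e2 : x⁻¹ * B.t * (x⁻¹)⁻¹ = B.t := mul_inv_eq_iff_eq_mul.2 hx.1.inv_left.eq
        rcases hx.2 with r | r
        · left
          calc x⁻¹ * B.v * (x⁻¹)⁻¹ = x⁻¹ * (x * B.v * x⁻¹) * (x⁻¹)⁻¹ := by rw [r]
            _ = B.v := by group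
        · right
          have h1 : x⁻¹ * (B.t * B.v) * (x⁻¹)⁻¹ = B.v := by rw [← r]; group
          rw [← conj_mul, e2] at h1
          calc x⁻¹ * B.v * (x⁻¹)⁻¹ = B.t * (B.t * (x⁻¹ * B.v * (x⁻¹)⁻¹)) := by
                rw [← mul_assoc, mul_self_of_order_two B.ht, one_mul]
            _ = B.t * B.v := by rw [h1]⟩ }
  have hFV : ∀ g ∈ N, ∀ x ∈ B.FV, g • x ∈ B.FV := by
    rintro g ⟨hgt, hgv⟩ x ⟨hxt, hxv⟩
    have h1 : g • x ∈ B.F := by
      show B.t • g • x = g • x
      rw [← mul_smul, ← hgt.eq, mul_smul]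
      exact congrArg _ hxt
    refine ⟨h1, ?_⟩
    have h2 : (g * B.v * g⁻¹) • g • x = g • x := by
      rw [mul_smul, mul_smul, inv_smul_smul]
      exact congrArg _ hxv
    rcases hgv with r | r <;> rw [r] at h2
    · exact h2
    · rw [mul_smul] at h2
      show B.v • g • x = g • x
      exact MulAction.injective B.t (h2.trans h1.symm)
  have hN : Nat.card N = B.k * (B.k - 1) * 4 := by
    rw [← B.card_inf_four h N (fun g hg => hg.1) ⟨Commute.refl _, Or.inl (by
      rw [B.hcomm.eq, mul_inv_cancel_right])⟩ ⟨B.hcomm.symm, Or.inl (by group)⟩]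
    refine card_of_pair_orbit N B.hab B.haV B.hbV hFV fun c hc d hd hcd => ?_
    obtain ⟨g, h1, h2, h3, h4⟩ := B.moveV h hc hd hcd
    exact ⟨g, ⟨h1, h2⟩, h3, h4⟩
  have hsN : s ∈ N := ⟨hO.comm, Or.inr hO.moves⟩
  have hCN : C ≤ N := fun g hg => ⟨((hmem g).1 hg).1,
    Or.inl (by rw [((hmem g).1 hg).2.eq, mul_inv_cancel_right])⟩
  have hidx : (C.subgroupOf N).index = 2 := by
    rw [Subgroup.index_eq_two_iff]
    refine ⟨⟨s, hsN⟩, fun x => ?_⟩
    simp only [Subgroup.mem_subgroupOf, Subgroup.coe_mul, hmem]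
    rcases x.2.2 with r | r
    · refine Or.inr ⟨⟨x.2.1, mul_inv_eq_iff_eq_mul.1 r⟩, fun hc => ?_⟩
      have e1 : s * B.v * s⁻¹ = B.v := by
        calc s * B.v * s⁻¹ = (x.1)⁻¹ * ((x.1 * s) * B.v * (x.1 * s)⁻¹) * x.1 := by group
          _ = (x.1)⁻¹ * B.v * x.1 := by rw [hc.2.eq, mul_inv_cancel_right]
          _ = B.v := by
            rw [mul_assoc, ← (mul_inv_eq_iff_eq_mul.1 r), ← mul_assoc, inv_mul_cancel, one_mul]
      rw [hO.moves] at e1
      exact ne_one_of_order_two B.ht (mul_eq_right.1 e1)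
    · refine Or.inl ⟨⟨x.2.1.mul_left hO.comm, ?_⟩, fun hc => ?_⟩
      · refine mul_inv_eq_iff_eq_mul.1 ?_
        rw [show x.1 * s * B.v * (x.1 * s)⁻¹ = x.1 * (s * B.v * s⁻¹) * x.1⁻¹ by group, hO.moves,
          ← conj_mul, r, mul_inv_eq_iff_eq_mul.2 x.2.1.eq, ← mul_assoc,
          mul_self_of_order_two B.ht, one_mul]
      · have e1 : x.1 * B.v * x.1⁻¹ = B.v := mul_inv_eq_iff_eq_mul.2 hc.2.eq
        rw [r] at e1
        exact ne_one_of_order_two B.ht (mul_eq_right.1 e1)
  have hcC : Nat.card C * 2 = B.k * (B.k - 1) * 4 := by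
    rw [← hN, ← Subgroup.card_mul_index (C.subgroupOf N), hidx,
      Nat.card_congr (Subgroup.subgroupOfEquivOfLe hCN).toEquiv]
  -- the action of the centralizer of the four group on its fixed points
  let φ : C →* Equiv.Perm B.FV :=
    { toFun := fun g =>
        { toFun := fun x => ⟨(g : G) • (x : Ω), hFV _ (hCN g.2) _ x.2⟩
          invFun := fun x => ⟨(g : G)⁻¹ • (x : Ω), hFV _ (inv_mem (hCN g.2)) _ x.2⟩
          left_inv := fun x => Subtype.ext (inv_smul_smul _ _)
          right_inv := fun x => Subtype.ext (smul_inv_smul _ _) }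
      map_one' := Equiv.ext fun x => Subtype.ext (one_smul G (x : Ω))
      map_mul' := fun g g' => Equiv.ext fun x => Subtype.ext (mul_smul (g : G) g' (x : Ω)) }
  have hker : Nat.card φ.ker = 4 := by
    rw [← B.card_inf_four h C (fun g hg => ((hmem g).1 hg).1)
      ((hmem _).2 ⟨Commute.refl _, B.hcomm⟩) ((hmem _).2 ⟨B.hcomm.symm, Commute.refl _⟩)]
    refine Nat.card_congr
      { toFun := fun g => ⟨g.1.1, g.1.2,
          congrArg Subtype.val (Equiv.ext_iff.1 g.2 ⟨B.a, B.haV⟩),
          congrArg Subtype.val (Equiv.ext_iff.1 g.2 ⟨B.b, B.hbV⟩)⟩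
        invFun := fun g => ⟨⟨g.1, g.2.1⟩, ?_⟩
        left_inv := fun _ => rfl
        right_inv := fun _ => rfl }
    refine Equiv.ext fun x => Subtype.ext ?_
    show (g : G) • (x : Ω) = x
    rcases B.cases_of_fix h B.hab B.hta B.htb B.hva B.hvb g.2.2.1 g.2.2.2 ((hmem _).1 g.2.1).1
      with r | r | r | r <;> rw [r]
    · exact one_smul _ _
    · exact x.2.1
    · exact x.2.2
    · rw [mul_smul, show B.v • (x : Ω) = x from x.2.2]; exact x.2.1
  have hrange : Odd (Nat.card φ.range) := by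
    by_contra hev
    rw [Nat.not_odd_iff_even, even_iff_two_dvd] at hev
    obtain ⟨⟨σ, g, rfl⟩, hσ⟩ := exists_prime_orderOf_dvd_card' (G := φ.range) 2 hev
    rw [← Subgroup.orderOf_coe] at hσ
    obtain ⟨c, hc⟩ : ∃ c, φ g c ≠ c := by
      by_contra hall
      push Not at hall
      exact ne_one_of_order_two hσ (Equiv.ext hall)
    have hc' : (c : Ω) ≠ (g : G) • (c : Ω) := fun e => hc (Subtype.ext e.symm)
    have hg2 : (g : G) • (g : G) • (c : Ω) = c :=
      congrArg Subtype.val (Equiv.ext_iff.1 (mul_self_of_order_two hσ) c)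
    set B' := B.withPair c.2 (φ g c).2 hc' with hB'
    rcases B'.swap_cases h with ⟨u, -, hu⟩ | ⟨s', hO', -⟩
    · have he1 : B'.e = B.e := by
        have h1 := B'.count h
        have h2 := B.count h
        have := B.two_le_m
        refine Nat.eq_of_mul_eq_mul_right (m := B.m * (B.m - 1)) ?_ (h1.symm.trans h2)
        exact Nat.mul_pos (by omega) (by omega)
      rcases hu with ⟨r, -⟩ | ⟨r, -⟩ | ⟨r, -⟩ <;> rw [he1, hB] at r <;> norm_num at r
    · have h1 : (g : G) * B.v * (g : G)⁻¹ = B.t * B.v :=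
        B'.outer_swap h hO' ((hmem _).1 g.2).1 rfl hg2
      rw [mul_inv_eq_iff_eq_mul.2 ((hmem _).1 g.2).2.eq] at h1
      exact ne_one_of_order_two B.ht (right_eq_mul.1 h1 |> fun e => e)
  have hCc : Nat.card C = 4 * Nat.card φ.range := by
    rw [← hker, ← Subgroup.index_ker, Subgroup.card_mul_index]
  rw [hCc] at hcC
  have : B.k * (B.k - 1) / 2 = Nat.card φ.range := by omega
  rwa [this]

/-- No kernel of order two in the symmetric odd case. -/
theorem outer_half_false (hn : Odd (Fintype.card Ω)) (hkm : B.k < B.m) {s : G} (hO : B.Outer s)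
    (he : B.e = 6) : False := by
  classical
  haveI : Fintype (fixedBy Ω B.t) := Fintype.ofFinite _
  have hH := B.halfSharp h hkm
  obtain ⟨hv, hvk⟩ := B.big_v h hkm
  have hcF : Fintype.card (fixedBy Ω B.t) = B.m := by rw [← Nat.card_eq_fintype_card, B.card_fix]
  have hmodd : Odd B.m := B.odd_m h hn
  have hm' : Odd (Fintype.card (fixedBy Ω B.t)) := by rwa [hcF]
  have hcases := hH.one_or_two hv (by rw [hvk, hcF]; exact hkm)
  rw [hvk] at hcases
  rcases hcases with ⟨hmk, one⟩ | ⟨hmk, two⟩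
  swap
  · refine hH.two_false two hv ?_ (by rw [hvk]; exact hmk)
    rw [hvk]
    rw [hcF] at hmk
    exact (Nat.odd_mul.1 (hmk ▸ hmodd)).1
  have hodd := B.outer_parity h hO hkm he
  -- lifts of small involutions have order four
  have hs2 := mul_self_of_order_two hO.swap.1
  have hst : Commute s B.t := hO.comm
  have hsv : (s * B.v) * (s * B.v) = B.t := by
    calc s * B.v * (s * B.v) = (s * B.v * s⁻¹) * (s * s) * B.v := by group
      _ = B.t := by rw [hO.moves, hs2, mul_one, mul_assoc, mul_self_of_order_two B.hv, mul_one]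
  set z : Subgroup.centralizer ({B.t} : Set G) := ⟨s * B.v,
    Subgroup.mem_centralizer_singleton_iff.2 (hst.mul_left B.hcomm.symm).eq⟩ with hz
  have hza : (s * B.v) • B.a = B.b := by rw [mul_smul, B.hva, hO.swap.2.1]
  have hzb : (s * B.v) • B.b = B.a := by rw [mul_smul, B.hvb, hO.swap.2.2]
  have hlift : ∀ x : B.Ind, HalfSharp.Small (fixedBy Ω B.t) x →
      ∀ l : Subgroup.centralizer ({B.t} : Set G), B.ind l = x → (l : G) * l = B.t := by
    -- squares are the same on a coset of the kernel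
    have hsq : ∀ l l' : Subgroup.centralizer ({B.t} : Set G), B.ind l = B.ind l' →
        (l : G) * l = (l' : G) * l' := by
      intro l l' e
      have hl : Commute (l : G) B.t := Subgroup.mem_centralizer_singleton_iff.1 l.2
      rcases (B.ind_eq_one_half h hkm (l⁻¹ * l')).1 (by rw [map_mul, map_inv, e, inv_mul_cancel])
        with r | r
      · have r' : (l : G)⁻¹ * l' = 1 := r
        rw [inv_mul_eq_one.1 r']
      · have r' : (l : G)⁻¹ * l' = B.t := r
        rw [inv_mul_eq_iff_eq_mul.1 r', Commute.mul_mul_mul_comm hl.symm,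
          mul_self_of_order_two B.ht, mul_one]
    have hconj : ∀ (l l' q : Subgroup.centralizer ({B.t} : Set G)),
        B.ind q * B.ind l * (B.ind q)⁻¹ = B.ind l' → (l' : G) * l' = B.t → (l : G) * l = B.t := by
      intro l l' q e hl'
      have h1 := hsq (q * l * q⁻¹) l' (by rw [map_mul, map_mul, map_inv, e])
      rw [hl'] at h1
      have hq : Commute (q : G) B.t := Subgroup.mem_centralizer_singleton_iff.1 q.2
      have h2 : (q : G) * l * (q : G)⁻¹ * ((q : G) * l * (q : G)⁻¹) = B.t := h1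
      calc (l : G) * l = (q : G)⁻¹ * ((q : G) * l * (q : G)⁻¹ * ((q : G) * l * (q : G)⁻¹)) * q := by group
        _ = B.t := by rw [h2, mul_assoc, ← hq.eq, inv_mul_cancel_left]
    intro x hx l hl
    obtain ⟨p, hp, hu⟩ := hH.small_point hm' hx
    have hF : 2 ≤ Fintype.card (fixedBy Ω B.t) := by rw [hcF]; exact B.two_le_m
    obtain ⟨c, hc⟩ := Fintype.exists_ne_of_one_lt_card hF p
    have hxc : x • c ≠ c := fun e => hc (hu c e)
    have hab' : (⟨B.a, B.ha⟩ : fixedBy Ω B.t) ≠ ⟨B.b, B.hb⟩ :=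
      fun e => B.hab (congrArg Subtype.val e)
    obtain ⟨y, hy1, hy2⟩ := exists_smul_pair hH.two (Ne.symm hxc) hab'
    obtain ⟨q, rfl⟩ := B.ind_surj y
    have hsmall : HalfSharp.Small (fixedBy Ω B.t) (B.ind z) := by
      refine ⟨hH.swap_order hab' (Subtype.ext hza) (Subtype.ext hzb), fun hb => ?_⟩
      obtain ⟨w, hw⟩ := isConj_iff.1 (hH.isConj_big hv hb)
      obtain ⟨q', rfl⟩ := B.ind_surj w
      have h1 := hconj ⟨B.v, B.v_mem⟩ z q' hw hsv
      have h2 : B.v * B.v = B.t := h1
      rw [mul_self_of_order_two B.hv] at h2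
      exact ne_one_of_order_two B.ht h2.symm
    obtain ⟨w, -, -, -, huw⟩ := hH.exists_small_swap hm' one hab'
    have hxs : HalfSharp.Small (fixedBy Ω B.t) (B.ind q * x * (B.ind q)⁻¹) := by
      refine ⟨by rw [← hx.1]; exact MulEquiv.orderOf_eq (MulAut.conj (B.ind q)) x, fun hb => hx.2 ?_⟩
      have := hb.conj (B.ind q)⁻¹
      rwa [inv_inv, show (B.ind q)⁻¹ * (B.ind q * x * (B.ind q)⁻¹) * B.ind q = x by group] at this
    have hx2 : x • x • c = c := invol_smul_smul (mul_self_of_order hx.1) c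
    have e := huw _ hxs
      (by rw [← hy1, mul_smul, mul_smul, inv_smul_smul, hy2])
      (by rw [← hy2, mul_smul, mul_smul, inv_smul_smul, hx2, hy1])
    have e2 := huw _ hsmall (Subtype.ext hza) (Subtype.ext hzb)
    refine hconj l z q ?_ hsv
    rw [hl, e, e2]
  refine hH.parity_false hm' one hv (by rw [hvk]; exact hmk) (by rw [hvk]; exact hodd) ?_
  intro Q hQ hQb hQu
  haveI : Fact (Nat.Prime 2) := ⟨Nat.prime_two⟩
  set R : Subgroup (Subgroup.centralizer ({B.t} : Set G)) := Q.comap B.ind with hR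
  have hker : IsPGroup 2 B.ind.ker := by
    intro x
    refine ⟨1, Subtype.ext (Subtype.ext ?_)⟩
    show ((x : Subgroup.centralizer ({B.t} : Set G)) : G) ^ (2 ^ 1) = 1
    rw [pow_one, pow_two]
    rcases (B.ind_eq_one_half h hkm _).1 x.2 with r | r <;> rw [r]
    · rw [mul_one]
    · exact mul_self_of_order_two B.ht
  have hRp : IsPGroup 2 R := hQ.comap_of_ker_isPGroup B.ind hker
  have hinvol : ∀ x : R, orderOf x = 2 → ((x : Subgroup.centralizer ({B.t} : Set G)) : G) = B.t := by
    intro x hx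
    have hxx : ((x : Subgroup.centralizer ({B.t} : Set G)) : G) *
        (x : Subgroup.centralizer ({B.t} : Set G)) = 1 :=
      congrArg Subtype.val (congrArg Subtype.val (mul_self_of_order hx))
    by_cases h1 : B.ind x = 1
    · rcases (B.ind_eq_one_half h hkm _).1 h1 with r | r
      · exfalso
        exact ne_one_of_order_two hx (Subtype.ext (Subtype.ext r))
      · exact r
    · exfalso
      have hsmall : HalfSharp.Small (fixedBy Ω B.t) (B.ind x) :=
        ⟨order_of_mul_self (by rw [← map_mul, ← map_one B.ind]; exact congrArg _ (Subtype.ext hxx)) h1,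
          hQb _ x.2⟩
      rw [hlift _ hsmall x rfl] at hxx
      exact ne_one_of_order_two B.ht hxx
  have hRQ : ∀ x : R, B.ind x ∈ Q := fun x => x.2
  let π : R →* Q := (B.ind.comp R.subtype).codRestrict Q hRQ
  have hπ : Function.Surjective π := fun q => by
    obtain ⟨x, hx⟩ := B.ind_surj q.1
    exact ⟨⟨x, by show B.ind x ∈ Q; rw [hx]; exact q.2⟩, Subtype.ext hx⟩
  rcases CfsgLib.StructC.isCyclic_or_quaternion hRp (fun x y hx hy _ => by
      rw [show y = x from Subtype.ext (Subtype.ext ((hinvol y hy).trans (hinvol x hx).symm))]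
      exact Subgroup.mem_zpowers x) with hcy | ⟨j, hj, ⟨φ⟩⟩
  · exact isCyclic_of_surjective π hπ
  exfalso
  have hq : ∀ i, QuaternionGroup.xa i * QuaternionGroup.xa i =
      (QuaternionGroup.a ((2 ^ j : ℕ) : ZMod (2 * 2 ^ j)) : QuaternionGroup (2 ^ j)) := fun i => by
    simp
  haveI : NeZero (2 ^ j) := ⟨by positivity⟩
  set τ : R := φ.symm (QuaternionGroup.a ((2 ^ j : ℕ) : ZMod (2 * 2 ^ j))) with hτ
  have hne : ((2 ^ j : ℕ) : ZMod (2 * 2 ^ j)) ≠ 0 := by
    rw [ne_eq, ZMod.natCast_eq_zero_iff]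
    intro hd
    have := Nat.le_of_dvd (by positivity) hd
    have : 0 < 2 ^ j := by positivity
    omega
  have hτ1 : τ ≠ 1 := by
    rw [hτ, ne_eq, map_eq_one_iff _ φ.symm.injective, QuaternionGroup.one_def]
    exact fun e => hne (by injection e)
  have hτo : orderOf τ = 2 := order_of_mul_self (φ.injective (by
    rw [map_mul, hτ, MulEquiv.apply_symm_apply, map_one, QuaternionGroup.a_mul_a,
      ← Nat.cast_add, ← two_mul, ZMod.natCast_self, ← QuaternionGroup.one_def])) hτ1
  have hπτ : π τ = 1 := Subtype.ext ((B.ind_eq_one_half h hkm _).2 (Or.inr (hinvol τ hτo)))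
  have hπk : ∀ x : R, π x = 1 → x = 1 ∨ x = τ := fun x hx => by
    rcases (B.ind_eq_one_half h hkm _).1 (congrArg Subtype.val hx) with r | r
    · exact Or.inl (Subtype.ext (Subtype.ext r))
    · exact Or.inr (Subtype.ext (Subtype.ext (r.trans (hinvol τ hτo).symm)))
  have hinv : ∀ i, orderOf (π (φ.symm (QuaternionGroup.xa i))) = 2 := by
    intro i
    refine order_of_mul_self ?_ fun e => ?_
    · rw [← map_mul, ← map_mul, hq, ← hτ, hπτ]
    · rcases hπk _ e with r | r
      · rw [map_eq_one_iff _ φ.symm.injective, QuaternionGroup.one_def] at r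
        cases r
      · rw [hτ] at r
        cases φ.symm.injective r
  have e := hQu _ (π (φ.symm (QuaternionGroup.xa 0))).2 _ (π (φ.symm (QuaternionGroup.xa 1))).2
    (by rw [Subgroup.orderOf_coe]; exact hinv 0) (by rw [Subgroup.orderOf_coe]; exact hinv 1)
  have e' : π ((φ.symm (QuaternionGroup.xa 0))⁻¹ * φ.symm (QuaternionGroup.xa 1)) = 1 := by
    rw [map_mul, map_inv, Subtype.ext e, inv_mul_cancel]
  have hj2 : 2 ≤ 2 ^ j := Nat.le_self_pow (by omega) 2
  rcases hπk _ e' with r | r
  · have r' := φ.symm.injective (inv_mul_eq_one.1 r)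
    injection r' with r'
    have h2 : ((1 : ℕ) : ZMod (2 * 2 ^ j)) = 0 := by rw [Nat.cast_one]; exact r'.symm
    rw [ZMod.natCast_eq_zero_iff, Nat.dvd_one] at h2
    omega
  · rw [inv_mul_eq_iff_eq_mul, hτ, ← map_mul] at r
    have r' := φ.symm.injective r
    rw [QuaternionGroup.xa_mul_a, zero_add] at r'
    injection r' with r'
    rw [← Nat.cast_one, ZMod.natCast_eq_natCast_iff', Nat.mod_eq_of_lt (by omega),
      Nat.mod_eq_of_lt (by omega)] at r'
    omega


end Base

end CfsgLib.Perm.TwoPointFour
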