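import Cfsg.Agent.Lib.Perm.TwoPointFour.Quot
import Cfsg.Agent.Lib.Perm.TwoPointFour.Count
import Cfsg.Agent.Lib.Perm.TwoPointFive.Klein
import Cfsg.Agent.S0215
import Cfsg.Agent.S1181
import Cfsg.Prelude.Def_TwoFusion

/-!
Odd degree: involutions outside the class of `t` fix one point, the isolated case, and the cases
with a central exchanging involution.
-/

set_option autoImplicit false
set_option linter.unusedSectionVars false

namespace CfsgLib.Perm.TwoPointFour

open MulAction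
open CfsgLib.Perm.TwoPointFive (mul_self_of_order_two ne_one_of_order_two order_two inv_eq_self
  orderOf_conj_two Sharp HalfSharp Big fixAct even_moved)

universe u w

variable {G : Type u} {Ω : Type w} [Group G] [Finite G] [MulAction G Ω] [Fintype Ω]

attribute [local instance] CfsgLib.Perm.TwoPointFive.fixAct

noncomputable local instance fintypeFixed (x : G) : Fintype (fixedBy Ω x) := Fintype.ofFinite _

namespace Base

variable (h : Hyp G Ω) (B : Base G Ω)
include h

theorem odd_m (hn : Odd (Fintype.card Ω)) : Odd B.m := by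
  have h1 := B.even_sub h
  have h2 := (B.m_lt h).le
  rw [Nat.even_sub h2] at h1
  rw [← Nat.not_even_iff_odd] at hn ⊢
  exact fun e => hn (h1.2 e)

theorem odd_card_F (hn : Odd (Fintype.card Ω)) : Odd (Fintype.card (fixedBy Ω B.t)) := by
  rw [← Nat.card_eq_fintype_card, B.card_fix]; exact B.odd_m h hn

/-- An involution outside the class of `t` fixes exactly one point. -/
theorem one_point (hn : Odd (Fintype.card Ω)) {x : G} (hx : orderOf x = 2) (hxc : ¬ IsConj B.t x) :
    ∃! c : Ω, x • c = c := by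
  have h1 := even_moved (F := Ω) (mul_self_of_order_two hx)
  have hpos : 0 < Nat.card (fixedBy Ω x) := by
    by_contra h0
    rw [show Nat.card (fixedBy Ω x) = 0 by omega, Nat.sub_zero] at h1
    exact Nat.not_even_iff_odd.2 hn h1
  obtain ⟨⟨c, hc⟩⟩ := (Nat.card_pos_iff.1 hpos).1
  exact ⟨c, hc, fun d hd => by_contra fun e => hxc (B.isConj_t h hx e hd hc)⟩

/-- The exchanging involution outside the class of `t` is unique for each pair. -/
theorem unique_swap_outside {u : G} (hD : B.Direct u) (hu : ¬ IsConj B.t u)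
    (htu : IsConj B.t (B.t * u)) {c d : Ω} (hcd : c ≠ d) {x y : G} (hx : orderOf x = 2)
    (hy : orderOf y = 2) (hxc : ¬ IsConj B.t x) (hyc : ¬ IsConj B.t y) (hx1 : x • c = d)
    (hy1 : y • c = d) : x = y := by
  obtain ⟨g, hga, hgb⟩ := exists_smul_pair h.two hcd B.hab
  have key : ∀ z : G, orderOf z = 2 → ¬ IsConj B.t z → z • c = d → g * z * g⁻¹ = u := by
    intro z hz hzc hz1
    have hz2 : z • d = c := by rw [← hz1, ← mul_smul, mul_self_of_order_two hz, one_smul]
    have hs : B.IsSwap (g * z * g⁻¹) := ⟨orderOf_conj_two g hz,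
      by rw [mul_smul, mul_smul, ← hga, inv_smul_smul, hz1, hgb],
      by rw [mul_smul, mul_smul, ← hgb, inv_smul_smul, hz2, hga]⟩
    rcases hD.others _ hs with r | r
    · exact r
    · exact absurd ((htu.trans r).trans (isConj_iff.2 ⟨g⁻¹, by group⟩)) hzc
  exact mul_left_cancel (mul_right_cancel ((key x hx hxc hx1).trans (key y hy hyc hy1).symm))

/-- In the isolated case two outside involutions fixing the same point are equal. -/
theorem outside_eq (hn : Odd (Fintype.card Ω)) {u : G} (hD : B.Direct u) (hu : ¬ IsConj B.t u)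
    (htu : IsConj B.t (B.t * u)) {x y : G} (hx : orderOf x = 2) (hy : orderOf y = 2)
    (hxc : ¬ IsConj B.t x) (hyc : ¬ IsConj B.t y) {c : Ω} (hx1 : x • c = c) (hy1 : y • c = c) :
    x = y := by
  haveI := h.pretrans
  have hF : 2 ≤ Fintype.card Ω := le_trans B.two_le_m (B.m_lt h).le
  refine eq_of_one_fixed hF {z : G | orderOf z = 2 ∧ ¬ IsConj B.t z}
    (fun z hz => B.one_point h hn hz.1 hz.2)
    (fun g z hz => ⟨orderOf_conj_two g hz.1, fun e => hz.2 (e.trans (isConj_iff.2 ⟨g⁻¹, by group⟩))⟩)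
    (fun c d hcd => ?_) (show x ∈ _ from ⟨hx, hxc⟩) (show y ∈ _ from ⟨hy, hyc⟩) hx1 hy1
  obtain ⟨g, hga, hgb⟩ := exists_smul_pair h.two B.hab hcd
  refine ⟨g * u * g⁻¹, ⟨⟨orderOf_conj_two g hD.swap.1,
    fun e => hu (e.trans (isConj_iff.2 ⟨g⁻¹, by group⟩))⟩,
    by rw [mul_smul, mul_smul, ← hga, inv_smul_smul, hD.swap.2.1, hgb]⟩, fun z hz => ?_⟩
  exact B.unique_swap_outside h hD hu htu hcd hz.1.1 (orderOf_conj_two g hD.swap.1) hz.1.2
    (fun e => hu (e.trans (isConj_iff.2 ⟨g⁻¹, by group⟩))) hz.2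
    (by rw [mul_smul, mul_smul, ← hga, inv_smul_smul, hD.swap.2.1, hgb])

/-- The escape: an isolated involution is central modulo the odd core. -/
theorem escape (hn : Odd (Fintype.card Ω)) {u : G} (hD : B.Direct u) (hu : ¬ IsConj B.t u)
    (htu : IsConj B.t (B.t * u)) :
    ∃ J : G, orderOf J = 2 ∧ Subgroup.centralizer ({J} : Set G) ⊔ Cfsg.oddCore G = ⊤ := by
  classical
  have ho := hD.swap.1
  have hcls : ∀ g : G, orderOf (g * u * g⁻¹) = 2 ∧ ¬ IsConj B.t (g * u * g⁻¹) := fun g =>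
    ⟨orderOf_conj_two g ho, fun e => hu (e.trans (isConj_iff.2 ⟨g⁻¹, by group⟩))⟩
  have heq : ∀ (c : Ω) (g : G), u • c = c → (g * u * g⁻¹) • c = c → g * u * g⁻¹ = u :=
    fun c g h1 h2 => B.outside_eq h hn hD hu htu (hcls g).1 ho (hcls g).2 hu h2 h1
  have hiso : Cfsg.IsIsolatedInvolution u := by
    refine ⟨ho, fun g hg => ?_⟩
    obtain ⟨c, hc, hcu⟩ := B.one_point h hn ho hu
    refine heq c g hc (hcu _ ?_)
    show u • (g * u * g⁻¹) • c = (g * u * g⁻¹) • c
    rw [← mul_smul, hg.eq, mul_smul, show u • c = c from hc]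
  obtain ⟨P, hP⟩ := (IsPGroup.of_card (p := 2) (n := 1)
    (by rw [Nat.card_zpowers, ho, pow_one])).exists_le_sylow (P := Subgroup.zpowers u)
  haveI : Fact (Nat.Prime 2) := ⟨Nat.prime_two⟩
  obtain ⟨c, hc⟩ := P.2.nonempty_fixed_point_of_prime_not_dvd_card Ω
    (by rw [Nat.card_eq_fintype_card]; exact fun e => Nat.not_even_iff_odd.2 hn (even_iff_two_dvd.2 e))
  obtain ⟨N, hN, hNo, hcomm⟩ := Cfsg.Agent.S0215.result P u ho (hP (Subgroup.mem_zpowers u))
    (fun g hg => heq c g (hc ⟨u, hP (Subgroup.mem_zpowers u)⟩) (hc ⟨_, hg⟩))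
  haveI := hN
  refine ⟨u, ho, ?_⟩
  have huN : u ∉ N := fun e => by
    have h1 := Subgroup.orderOf_dvd_natCard N e
    rw [ho] at h1
    exact Nat.not_even_iff_odd.2 hNo (even_iff_two_dvd.2 h1)
  obtain ⟨hcent, -⟩ := Cfsg.Agent.S1181.result u hiso N huN
  have htop : Subgroup.centralizer ({(QuotientGroup.mk u : G ⧸ N)} : Set (G ⧸ N)) = ⊤ := by
    rw [eq_top_iff]
    intro q _
    obtain ⟨g, rfl⟩ := QuotientGroup.mk_surjective q
    rw [Subgroup.mem_centralizer_singleton_iff]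
    show ((g * u : G) : G ⧸ N) = ((u * g : G) : G ⧸ N)
    rw [QuotientGroup.eq]
    have h1 := hN.conj_mem _ (hcomm g) (g * u)⁻¹
    simpa [mul_assoc] using h1
  rw [htop] at hcent
  refine le_antisymm le_top fun g _ => ?_
  obtain ⟨c', hc', he⟩ := Subgroup.mem_map.1 (hcent ▸ Subgroup.mem_top (g : G ⧸ N))
  have hNle : N ≤ Cfsg.oddCore G := le_sSup ⟨hN, Nat.coprime_two_right.2 hNo⟩
  have h2 : c'⁻¹ * g ∈ N := QuotientGroup.eq.1 he
  simpa using Subgroup.mul_mem_sup hc' (hNle h2)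

theorem ind_big_of_fix {x : Subgroup.centralizer ({B.t} : Set G)} (hx : (x : G) * x = 1)
    (hx1 : B.ind x ≠ 1) {c d : Ω} (hc : c ∈ B.F) (hd : d ∈ B.F) (hcd : c ≠ d)
    (hxc : (x : G) • c = c) (hxd : (x : G) • d = d) : Big (fixedBy Ω B.t) (B.ind x) :=
  CfsgLib.Perm.TwoPointFive.big_of_fix
    (order_two (by rw [← map_mul, show x * x = 1 from Subtype.ext hx, map_one]) hx1)
    (show (⟨c, hc⟩ : fixedBy Ω B.t) ≠ ⟨d, hd⟩ from fun e => hcd (congrArg Subtype.val e))
    (Subtype.ext ((B.ind_smul x ⟨c, hc⟩).trans hxc)) (Subtype.ext ((B.ind_smul x ⟨d, hd⟩).trans hxd))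

theorem fix_of_ind_big {x : Subgroup.centralizer ({B.t} : Set G)}
    (hx : Big (fixedBy Ω B.t) (B.ind x)) :
    ∃ c d : Ω, c ≠ d ∧ c ∈ B.F ∧ d ∈ B.F ∧ (x : G) • c = c ∧ (x : G) • d = d := by
  obtain ⟨c, d, hcd, hc, hd⟩ := hx.exists_pair
  exact ⟨c, d, fun e => hcd (Subtype.ext e), c.2, d.2,
    (B.ind_smul x c).symm.trans (congrArg Subtype.val hc),
    (B.ind_smul x d).symm.trans (congrArg Subtype.val hd)⟩

/-- With the four group fixing all fixed points of `t`, no central exchanger is conjugate to `t`. -/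
theorem full_direct_false (hn : Odd (Fintype.card Ω)) (hkm : B.k = B.m) {u : G} (hD : B.Direct u)
    (hu : IsConj B.t u) : False := by
  obtain ⟨g, hg⟩ := isConj_iff.1 hu.symm
  -- the four group, moved into the centraliser of `t`
  have hmem : ∀ x : G, Commute x u → g * x * g⁻¹ ∈ Subgroup.centralizer ({B.t} : Set G) := by
    intro x hx
    rw [Subgroup.mem_centralizer_singleton_iff, ← hg]
    calc g * x * g⁻¹ * (g * u * g⁻¹) = g * (x * u) * g⁻¹ := by group
      _ = _ := by rw [hx.eq]; group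
  have hc : ∀ x : G, x • B.a = B.a → x • B.b = B.b → Commute x u := fun x h1 h2 => (hD.central x h1 h2).symm
  have hne : ∀ x : G, orderOf x = 2 → x • B.a = B.a → ∀ hx : Commute x u, x • B.b = B.b →
      B.ind ⟨g * x * g⁻¹, hmem x hx⟩ ≠ 1 := by
    intro x hx hxa hxu hxb e
    have h1 := (B.ind_eq_one_iff _).1 e
    have hsub : fixedBy Ω u ⊆ fixedBy Ω x := by
      intro z hz
      have hz' : g • z ∈ B.F := by
        show B.t • g • z = g • z
        rw [← hg, mul_smul, mul_smul, inv_smul_smul, show u • z = z from hz]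
      have h2 : (g * x * g⁻¹) • g • z = g • z := h1 _ hz'
      rw [mul_smul, mul_smul, inv_smul_smul] at h2
      exact MulAction.injective g h2
    have h3 : fixedBy Ω u = fixedBy Ω x := Set.eq_of_subset_of_ncard_le hsub (by
      rw [B.ncard_fixed_conj h hu, B.ncard_fixed_conj h (B.isConj_t h hx B.hab hxa hxb)])
      (Set.toFinite _)
    have h4 : B.a ∈ fixedBy Ω u := h3 ▸ (show B.a ∈ fixedBy Ω x from hxa)
    exact B.hab ((show u • B.a = B.a from h4).symm.trans hD.swap.2.1)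
  have htv : (B.t * B.v) • B.a = B.a ∧ (B.t * B.v) • B.b = B.b :=
    ⟨by rw [mul_smul, B.hva, B.hta], by rw [mul_smul, B.hvb, B.htb]⟩
  have ct := hc B.t B.hta B.htb
  have cv := hc B.v B.hva B.hvb
  have h1 := hne B.t B.ht B.hta ct B.htb
  have h2 := hne B.v B.hv B.hva cv B.hvb
  have h3 := hne (B.t * B.v) B.orderOf_tv htv.1 (ct.mul_left cv) htv.2
  have hinv : ∀ (x : Subgroup.centralizer ({B.t} : Set G)), (x : G) * x = 1 → B.ind x ≠ 1 →
      orderOf (B.ind x) = 2 := fun x hx hx1 =>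
    order_two (by rw [← map_mul, show x * x = 1 from Subtype.ext hx, map_one]) hx1
  have hsq : ∀ x : G, orderOf x = 2 → g * x * g⁻¹ * (g * x * g⁻¹) = 1 := fun x hx =>
    mul_self_of_order_two (orderOf_conj_two g hx)
  have heq := (B.sharp h hkm).invol_unique (B.odd_card_F h hn)
    (hinv ⟨_, hmem _ ct⟩ (hsq _ B.ht) h1) (hinv ⟨_, hmem _ cv⟩ (hsq _ B.hv) h2)
    ((show Commute (⟨_, hmem _ ct⟩ : Subgroup.centralizer ({B.t} : Set G)) ⟨_, hmem _ cv⟩ from
      Subtype.ext (by
        show g * B.t * g⁻¹ * (g * B.v * g⁻¹) = g * B.v * g⁻¹ * (g * B.t * g⁻¹)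
        rw [conj_mul, conj_mul, B.hcomm.eq])).map B.ind)
  apply h3
  have h5 : (⟨_, hmem _ (ct.mul_left cv)⟩ : Subgroup.centralizer ({B.t} : Set G)) =
      ⟨_, hmem _ ct⟩ * ⟨_, hmem _ cv⟩ := Subtype.ext (by
    show g * (B.t * B.v) * g⁻¹ = g * B.t * g⁻¹ * (g * B.v * g⁻¹)
    rw [conj_mul])
  rw [h5, map_mul, heq, ← map_mul, show (⟨_, hmem _ cv⟩ : Subgroup.centralizer ({B.t} : Set G)) *
    ⟨_, hmem _ cv⟩ = 1 from Subtype.ext (hsq _ B.hv), map_one]

theorem half_k (hn : Odd (Fintype.card Ω)) (hkm : B.k < B.m) :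
    Odd B.k ∧ B.m = B.k * B.k ∧ ∀ c d : fixedBy Ω B.t, c ≠ d → ∀ x y : B.Ind, x ≠ y →
      x • c = d → x • d = c → y • c = d → y • d = c →
        (Big (fixedBy Ω B.t) x ↔ ¬ Big (fixedBy Ω B.t) y) := by
  obtain ⟨hv, hk⟩ := B.big_v h hkm
  have hs := B.halfSharp h hkm
  have hm := B.odd_m h hn
  rcases hs.one_or_two hv (by rw [hk, ← Nat.card_eq_fintype_card, B.card_fix]; exact hkm)
    with ⟨e, one⟩ | ⟨e, two⟩
  · rw [hk, ← Nat.card_eq_fintype_card, B.card_fix] at e
    exact ⟨(Nat.odd_mul.1 (e ▸ hm)).1, e, one⟩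
  · exfalso
    have e' := e
    rw [hk, ← Nat.card_eq_fintype_card, B.card_fix] at e'
    exact hs.two_false two hv (by rw [hk]; exact (Nat.odd_mul.1 (e' ▸ hm)).1) e

theorem half_one_false (hn : Odd (Fintype.card Ω)) (hkm : B.k < B.m) {u : G} (hD : B.Direct u)
    (hu : IsConj B.t u) (htu : ¬ IsConj B.t (B.t * u)) : False := by
  obtain ⟨-, -, one⟩ := B.half_k h hn hkm
  have hut : Commute u B.t := hD.central _ B.hta B.htb
  have huv : Commute u B.v := hD.central _ B.hva B.hvb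
  have hu2 := mul_self_of_order_two hD.swap.1
  let uC : Subgroup.centralizer ({B.t} : Set G) := ⟨u, Subgroup.mem_centralizer_singleton_iff.2 hut.eq⟩
  let vC : Subgroup.centralizer ({B.t} : Set G) := ⟨B.v, B.v_mem⟩
  let a' : fixedBy Ω B.t := ⟨B.a, B.hta⟩
  let b' : fixedBy Ω B.t := ⟨B.b, B.htb⟩
  have hab' : a' ≠ b' := fun e => B.hab (congrArg Subtype.val e)
  have hva : B.ind vC • a' = a' := Subtype.ext ((B.ind_smul vC a').trans B.hva)
  have hvb : B.ind vC • b' = b' := Subtype.ext ((B.ind_smul vC b').trans B.hvb)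
  have h1 : B.ind uC • a' = b' := Subtype.ext ((B.ind_smul uC a').trans hD.swap.2.1)
  have h2 : B.ind uC • b' = a' := Subtype.ext ((B.ind_smul uC b').trans hD.swap.2.2)
  have hs : B.IsSwap (u * B.v) := by
    refine ⟨order_two (by rw [huv.symm.mul_mul_mul_comm, hu2, mul_self_of_order_two B.hv, one_mul]) ?_,
      by rw [mul_smul, B.hva, hD.swap.2.1], by rw [mul_smul, B.hvb, hD.swap.2.2]⟩
    intro e
    have h3 : (u * B.v) • B.a = B.a := by rw [e, one_smul]
    rw [mul_smul, B.hva, hD.swap.2.1] at h3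
    exact B.hab h3.symm
  have hnuv : ¬ IsConj B.t (u * B.v) := by
    rcases hD.others _ hs with r | r
    · exact absurd (mul_eq_left.1 r) (ne_one_of_order_two B.hv)
    · exact fun e => htu (e.trans r.symm)
  have hbu : ¬ Big (fixedBy Ω B.t) (B.ind uC) := by
    intro hb
    obtain ⟨c, d, hcd, hc, hd, e1, e2⟩ := B.fix_of_ind_big h hb
    refine htu (B.isConj_t h ?_ hcd (c := c) (d := d) ?_ ?_)
    · exact order_two (by rw [hut.mul_mul_mul_comm, mul_self_of_order_two B.ht, hu2, one_mul])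
        fun e => B.hab (by
          have h3 : (B.t * u) • B.a = B.a := by rw [e, one_smul]
          rw [mul_smul, hD.swap.2.1, B.htb] at h3
          exact h3.symm)
    · rw [mul_smul, show u • c = c from e1]; exact hc
    · rw [mul_smul, show u • d = d from e2]; exact hd
  have hbuv : ¬ Big (fixedBy Ω B.t) (B.ind (uC * vC)) := by
    intro hb
    obtain ⟨c, d, hcd, -, -, e1, e2⟩ := B.fix_of_ind_big h hb
    exact hnuv (B.isConj_t h hs.1 hcd e1 e2)
  exact hbu ((one a' b' hab' _ (B.ind (uC * vC))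
    (fun e => B.v_moves h hkm (by rwa [map_mul, left_eq_mul] at e)) h1 h2
    (by rw [map_mul, mul_smul, hva, h1]) (by rw [map_mul, mul_smul, hvb, h2])).2 hbuv)

/-- A non-big involution of the induced group with a given fixed point is unique. -/
theorem small_eq (hn : Odd (Fintype.card Ω)) (hkm : B.k < B.m) {x y : B.Ind} (hx : orderOf x = 2)
    (hy : orderOf y = 2) (hxb : ¬ Big (fixedBy Ω B.t) x) (hyb : ¬ Big (fixedBy Ω B.t) y)
    {c : fixedBy Ω B.t} (hxc : x • c = c) (hyc : y • c = c) : x = y := by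
  obtain ⟨-, -, one⟩ := B.half_k h hn hkm
  have hs := B.halfSharp h hkm
  haveI := hs.two
  haveI : IsPretransitive B.Ind (fixedBy Ω B.t) := isPretransitive_of_is_two_pretransitive (h2 := hs.two)
  have hF : 2 ≤ Fintype.card (fixedBy Ω B.t) := by
    rw [← Nat.card_eq_fintype_card, B.card_fix]; exact B.two_le_m
  refine eq_of_one_fixed hF {z : B.Ind | orderOf z = 2 ∧ ¬ Big (fixedBy Ω B.t) z} (fun z hz => ?_)
    (fun g z hz => ⟨orderOf_conj_two g hz.1, fun e => hz.2 (by
      have := e.conj g⁻¹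
      rwa [show g⁻¹ * (g * z * g⁻¹) * g⁻¹⁻¹ = z by group] at this)⟩)
    (fun c d hcd => ?_) (show x ∈ _ from ⟨hx, hxb⟩) (show y ∈ _ from ⟨hy, hyb⟩) hxc hyc
  · have h1 := even_moved (F := fixedBy Ω B.t) (mul_self_of_order_two hz.1)
    have hpos : 0 < Nat.card (fixedBy (fixedBy Ω B.t) z) := by
      by_contra h0
      rw [show Nat.card (fixedBy (fixedBy Ω B.t) z) = 0 by omega, Nat.sub_zero] at h1
      exact Nat.not_even_iff_odd.2 (B.odd_card_F h hn) h1
    obtain ⟨⟨p, hp⟩⟩ := (Nat.card_pos_iff.1 hpos).1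
    exact ⟨p, hp, fun q hq => by_contra fun e =>
      hz.2 (CfsgLib.Perm.TwoPointFive.big_of_fix hz.1 e hq hp)⟩
  · have hex : ∃ z z' : B.Ind, z ≠ z' ∧ (z • c = d ∧ z • d = c) ∧ (z' • c = d ∧ z' • d = c) := by
      obtain ⟨g, hgc, hgd⟩ := exists_smul_pair hs.two hcd (Ne.symm hcd)
      obtain ⟨s, hs1, hsc, hsd⟩ := hs.exists_pair_invol hcd
      refine ⟨g, g * s, fun e => ?_, ⟨hgc, hgd⟩, by rw [mul_smul, hsc, hgc], by rw [mul_smul, hsd, hgd]⟩
      rw [left_eq_mul] at e
      exact ne_one_of_order_two hs1 e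
    obtain ⟨z, z', hzz, ⟨hz1, hz2⟩, hz1', hz2'⟩ := hex
    have hord : ∀ w : B.Ind, w • c = d → w • d = c → orderOf w = 2 := fun w h1 h2 =>
      order_two (hs.swap c d hcd w h1 h2) fun e => hcd (by rw [← h1, e, one_smul])
    have hiff := one c d hcd z z' hzz hz1 hz2 hz1' hz2'
    have huniq : ∀ w : B.Ind, orderOf w = 2 → w • c = d → w = z ∨ w = z' := fun w hw hwc =>
      hs.swappers_eq hcd hzz hz1 hz2 hz1' hz2' hwc
        (by rw [← hwc, ← mul_smul, mul_self_of_order_two hw, one_smul])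
    by_cases hb : Big (fixedBy Ω B.t) z
    · refine ⟨z', ⟨⟨hord z' hz1' hz2', hiff.1 hb⟩, hz1'⟩, fun w hw => ?_⟩
      exact (huniq w hw.1.1 hw.2).resolve_left fun e => hw.1.2 (e ▸ hb)
    · refine ⟨z, ⟨⟨hord z hz1 hz2, hb⟩, hz1⟩, fun w hw => ?_⟩
      exact (huniq w hw.1.1 hw.2).resolve_right fun e => hw.1.2 (e ▸ (by_contra fun h' => hb (hiff.2 h')))

theorem half_four_false (hn : Odd (Fintype.card Ω)) (hkm : B.k < B.m) {u : G} (hD : B.Direct u)
    (hu : IsConj B.t u) : False := by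
  obtain ⟨-, -, one⟩ := B.half_k h hn hkm
  have hs := B.halfSharp h hkm
  obtain ⟨g, hg⟩ := isConj_iff.1 hu.symm
  obtain ⟨eH⟩ := h.stab B.a B.b B.hab
  let tH : ↥(stabilizer G B.a ⊓ stabilizer G B.b) := ⟨B.t, B.hta, B.htb⟩
  let vH : ↥(stabilizer G B.a ⊓ stabilizer G B.b) := ⟨B.v, B.hva, B.hvb⟩
  obtain ⟨p, -, hp1, hp2, hp3⟩ := exists_three eH (x := tH) (y := vH)
    (Subtype.ext (mul_self_of_order_two B.ht)) (fun e => ne_one_of_order_two B.ht (congrArg Subtype.val e))
    (Subtype.ext (mul_self_of_order_two B.hv)) (fun e => ne_one_of_order_two B.hv (congrArg Subtype.val e))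
    (fun e => B.hne (congrArg Subtype.val e))
  have p1 : (p : G) * B.t * (p : G)⁻¹ = B.v := congrArg Subtype.val hp1
  have p2 : (p : G) * B.v * (p : G)⁻¹ = B.t * B.v := congrArg Subtype.val hp2
  have p3 : (p : G) * (B.t * B.v) * (p : G)⁻¹ = B.t := congrArg Subtype.val hp3
  have hpu : Commute u (p : G) := hD.central _ p.2.1 p.2.2
  -- transfer of common fixed points
  have hmem : ∀ x : G, Commute x u → g * x * g⁻¹ ∈ Subgroup.centralizer ({B.t} : Set G) := by
    intro x hx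
    rw [Subgroup.mem_centralizer_singleton_iff, ← hg]
    calc g * x * g⁻¹ * (g * u * g⁻¹) = g * (x * u) * g⁻¹ := by group
      _ = _ := by rw [hx.eq]; group
  let J : G → Prop := fun x => ∃ c d : Ω, c ≠ d ∧ u • c = c ∧ u • d = d ∧ x • c = c ∧ x • d = d
  have hJconj : ∀ x, J x → J ((p : G) * x * (p : G)⁻¹) := by
    rintro x ⟨c, d, hcd, a1, a2, a3, a4⟩
    refine ⟨(p : G) • c, (p : G) • d, fun e => hcd (MulAction.injective _ e), ?_, ?_, ?_, ?_⟩
    · rw [← mul_smul, hpu.eq, mul_smul, a1]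
    · rw [← mul_smul, hpu.eq, mul_smul, a2]
    · rw [mul_smul, mul_smul, inv_smul_smul, a3]
    · rw [mul_smul, mul_smul, inv_smul_smul, a4]
  have ct : Commute B.t u := (hD.central B.t B.hta B.htb).symm
  have cv : Commute B.v u := (hD.central B.v B.hva B.hvb).symm
  have ctv : Commute (B.t * B.v) u := ct.mul_left cv
  let X : ∀ x : G, Commute x u → Subgroup.centralizer ({B.t} : Set G) := fun x hx => ⟨_, hmem x hx⟩
  have hprod : B.ind (X _ ctv) = B.ind (X _ ct) * B.ind (X _ cv) := by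
    rw [← map_mul]
    exact congrArg B.ind (Subtype.ext (by
      show g * (B.t * B.v) * g⁻¹ = g * B.t * g⁻¹ * (g * B.v * g⁻¹)
      rw [conj_mul]))
  have hcomm : Commute (B.ind (X _ ct)) (B.ind (X _ cv)) :=
    (show Commute (X _ ct) (X _ cv) from Subtype.ext (by
      show g * B.t * g⁻¹ * (g * B.v * g⁻¹) = g * B.v * g⁻¹ * (g * B.t * g⁻¹)
      rw [conj_mul, conj_mul, B.hcomm.eq])).map B.ind
  have hne : ∀ (x : G) (hx : Commute x u), orderOf x = 2 → x • B.a = B.a → x • B.b = B.b →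
      B.ind (X x hx) ≠ 1 := by
    intro x hx hxo hxa hxb e
    rw [B.ind_eq_one_half h hkm] at e
    rcases e with r | r
    · exact ne_one_of_order_two hxo (conj_eq_one_iff.1 r)
    · have : x = u := mul_left_cancel (mul_right_cancel (r.trans hg.symm))
      exact B.hab (hxa.symm.trans (this ▸ hD.swap.2.1))
  have hord : ∀ (x : G) (hx : Commute x u), orderOf x = 2 → x • B.a = B.a → x • B.b = B.b →
      orderOf (B.ind (X x hx)) = 2 := fun x hx hxo hxa hxb => order_two (by
      rw [← map_mul, show X x hx * X x hx = 1 from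
        Subtype.ext (mul_self_of_order_two (orderOf_conj_two g hxo)), map_one]) (hne x hx hxo hxa hxb)
  have hJb : ∀ (x : G) (hx : Commute x u), orderOf x = 2 → x • B.a = B.a → x • B.b = B.b →
      (Big (fixedBy Ω B.t) (B.ind (X x hx)) ↔ J x) := by
    intro x hx hxo hxa hxb
    constructor
    · intro hb
      obtain ⟨c, d, hcd, hc, hd, e1, e2⟩ := B.fix_of_ind_big h hb
      have key : ∀ z, z ∈ B.F → u • g⁻¹ • z = g⁻¹ • z := fun z hz => by
        rw [eq_inv_smul_iff, ← mul_smul, ← mul_smul, hg]; exact hz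
      refine ⟨g⁻¹ • c, g⁻¹ • d, fun e => hcd (MulAction.injective _ e), key c hc, key d hd, ?_, ?_⟩
      · rw [eq_inv_smul_iff, ← mul_smul, ← mul_smul]; exact e1
      · rw [eq_inv_smul_iff, ← mul_smul, ← mul_smul]; exact e2
    · rintro ⟨c, d, hcd, a1, a2, a3, a4⟩
      refine B.ind_big_of_fix h (x := X x hx) (mul_self_of_order_two (orderOf_conj_two g hxo))
        (hne x hx hxo hxa hxb) (c := g • c) (d := g • d) ?_ ?_ (fun e => hcd (MulAction.injective g e)) ?_ ?_
      · show B.t • g • c = g • c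
        rw [← hg, mul_smul, mul_smul, inv_smul_smul, a1]
      · show B.t • g • d = g • d
        rw [← hg, mul_smul, mul_smul, inv_smul_smul, a2]
      · show (g * x * g⁻¹) • g • c = g • c
        rw [mul_smul, mul_smul, inv_smul_smul, a3]
      · show (g * x * g⁻¹) • g • d = g • d
        rw [mul_smul, mul_smul, inv_smul_smul, a4]
  have tva : (B.t * B.v) • B.a = B.a := by rw [mul_smul, B.hva, B.hta]
  have tvb : (B.t * B.v) • B.b = B.b := by rw [mul_smul, B.hvb, B.htb]
  have bt := hJb B.t ct B.ht B.hta B.htb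
  have bv := hJb B.v cv B.hv B.hva B.hvb
  have btv := hJb (B.t * B.v) ctv B.orderOf_tv tva tvb
  by_cases hJ : J B.t
  · have hJv : J B.v := p1 ▸ hJconj _ hJ
    have hJtv : J (B.t * B.v) := p2 ▸ hJconj _ hJv
    exact hs.big_commute_false one (bt.2 hJ) (bv.2 hJv) (hprod ▸ btv.2 hJtv) hcomm
  · have hJtv : ¬ J (B.t * B.v) := fun e => hJ (p3 ▸ hJconj _ e)
    have hJv : ¬ J B.v := fun e => hJtv (p2 ▸ hJconj _ e)
    have ht' := hord B.t ct B.ht B.hta B.htb
    have hv' := hord B.v cv B.hv B.hva B.hvb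
    have hm := B.odd_card_F h hn
    -- a commuting involution fixes the one fixed point
    have hp := even_moved (F := fixedBy Ω B.t) (mul_self_of_order_two ht')
    have hpos : 0 < Nat.card (fixedBy (fixedBy Ω B.t) (B.ind (X _ ct))) := by
      by_contra h0
      rw [show Nat.card (fixedBy (fixedBy Ω B.t) (B.ind (X _ ct))) = 0 by omega, Nat.sub_zero] at hp
      exact Nat.not_even_iff_odd.2 hm hp
    obtain ⟨⟨c, hc⟩⟩ := (Nat.card_pos_iff.1 hpos).1
    have hc' : B.ind (X _ cv) • c = c := by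
      by_contra e
      refine hJ (bt.1 (CfsgLib.Perm.TwoPointFive.big_of_fix ht' e ?_ hc))
      rw [← mul_smul, hcomm.eq, mul_smul, show B.ind (X _ ct) • c = c from hc]
    have e2 := B.small_eq h hn hkm ht' hv' (fun e => hJ (bt.1 e)) (fun e => hJv (bv.1 e)) hc hc'
    exact hne _ ctv B.orderOf_tv tva tvb (by rw [hprod, e2, mul_self_of_order_two hv'])

/-- Odd degree: the escape, or a symmetric set stabiliser. -/
theorem odd_cases (hn : Odd (Fintype.card Ω)) :
    (∃ J : G, orderOf J = 2 ∧ Subgroup.centralizer ({J} : Set G) ⊔ Cfsg.oddCore G = ⊤) ∨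
      ((∃ s, B.Outer s) ∧ B.e = 6 ∧ (B.k = B.m ∨ (B.k < B.m ∧ Odd B.k ∧ B.m = B.k * B.k))) := by
  rcases B.swap_cases h with ⟨u, hD, hc⟩ | ⟨s, hs, he⟩
  · left
    rcases hc with ⟨-, hu, htu⟩ | ⟨-, hu, htu⟩ | ⟨-, hall⟩
    · exfalso
      rcases (B.k_le_m).eq_or_lt with e | e
      · exact B.full_direct_false h hn e hD hu
      · exact B.half_one_false h hn e hD hu htu
    · exact B.escape h hn hD hu htu
    · exfalso
      rcases (B.k_le_m).eq_or_lt with e | e
      · exact B.full_direct_false h hn e hD (hall u hD.swap)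
      · exact B.half_four_false h hn e hD (hall u hD.swap)
  · refine Or.inr ⟨⟨s, hs⟩, he, ?_⟩
    rcases (B.k_le_m).eq_or_lt with e | e
    · exact Or.inl e
    · obtain ⟨h1, h2, -⟩ := B.half_k h hn e
      exact Or.inr ⟨e, h1, h2⟩

end Base

end CfsgLib.Perm.TwoPointFour
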