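import Cfsg.Agent.Lib.Perm.TwoPointFour.Setup

/-!
The hypothesis from one two-point stabiliser.
-/

set_option autoImplicit false

namespace CfsgLib.Perm.TwoPointFour

open MulAction

/-- One two-point stabiliser isomorphic to `A₄` suffices. -/
theorem Hyp.of_pair {G Ω : Type*} [Group G] [MulAction G Ω] (hf : FaithfulSMul G Ω)
    (h2 : IsMultiplyPretransitive G Ω 2) {a b : Ω} (hab : a ≠ b)
    (e : ↥(stabilizer G a ⊓ stabilizer G b) ≃* ↥(alternatingGroup (Fin 4))) : Hyp G Ω := by
  refine ⟨hf, h2, fun c d hcd => ?_⟩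
  obtain ⟨g, hga, hgb⟩ := exists_smul_pair h2 hab hcd
  have hmap : (stabilizer G a ⊓ stabilizer G b).map (MulAut.conj g).toMonoidHom =
      stabilizer G c ⊓ stabilizer G d := by
    ext x
    simp only [Subgroup.mem_map_equiv, MulAut.conj_symm_apply, Subgroup.mem_inf, mem_stabilizer_iff,
      ← hga, ← hgb, mul_smul, inv_smul_eq_iff]
  exact ⟨((MulEquiv.subgroupCongr hmap.symm).trans
    (Subgroup.equivMapOfInjective _ _ (MulAut.conj g).injective).symm).trans e⟩

end CfsgLib.Perm.TwoPointFour
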