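import Cfsg.Agent.Lib.Perm.TwoPointFour.Quot
import Cfsg.Agent.Lib.Perm.TwoPointFour.Sixteen.Affine

/-!
Degree sixteen: the affine plane over the field with four elements.
-/

set_option autoImplicit false
set_option linter.unusedSectionVars false
set_option linter.style.haveILetI false

namespace CfsgLib.Perm.TwoPointFour

open MulAction
open CfsgLib.Perm.TwoPointFive (mul_self_of_order_two ne_one_of_order_two order_two inv_eq_self
  orderOf_conj_two even_moved)

universe u w

variable {G : Type u} {Ω : Type w} [Group G] [Finite G] [MulAction G Ω] [Fintype Ω]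

namespace Base

variable (h : Hyp G Ω) (B : Base G Ω)
include h

/-- When `k = m` the involutions of the pair stabiliser have the same fixed points. -/
theorem fixedBy_eq (hkm : B.k = B.m) {x : G} (hx : orderOf x = 2) (hxa : x • B.a = B.a)
    (hxb : x • B.b = B.b) : fixedBy Ω x = B.F := by
  have hv : ∀ y ∈ B.F, B.v • y = y := fun y hy => B.v_smul_of_full hkm hy
  have hsub : B.F ⊆ fixedBy Ω x := by
    obtain ⟨e⟩ := h.stab B.a B.b B.hab
    have hc : Commute x B.t := congrArg Subtype.val (invol_comm e (x := ⟨x, hxa, hxb⟩)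
      (y := ⟨B.t, B.hta, B.htb⟩) (Subtype.ext (mul_self_of_order_two hx))
      (Subtype.ext (mul_self_of_order_two B.ht)))
    intro y hy
    show x • y = y
    rcases B.cases_of_fix h B.hab B.hta B.htb B.hva B.hvb hxa hxb hc with r | r | r | r <;> rw [r]
    · exact one_smul _ _
    · exact hy
    · exact hv y hy
    · rw [mul_smul, hv y hy]; exact hy
  refine (Set.eq_of_subset_of_ncard_le hsub ?_ (Set.toFinite _)).symm
  rw [B.ncard_fixed_conj h (B.isConj_t h hx B.hab hxa hxb)]
  exact le_rfl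

/-- Any two commuting involutions fixing two points have the same fixed points. -/
theorem fixedBy_eq_pair (hkm : B.k = B.m) {x y : G} (hx : orderOf x = 2) (hy : orderOf y = 2)
    {c d : Ω} (hcd : c ≠ d) (hxc : x • c = c) (hxd : x • d = d) (hyc : y • c = c)
    (hyd : y • d = d) : fixedBy Ω x = fixedBy Ω y := by
  obtain ⟨g, hga, hgb⟩ := exists_smul_pair h.two B.hab hcd
  have key : ∀ z : G, orderOf z = 2 → z • c = c → z • d = d →
      fixedBy Ω z = (fun w => g • w) '' B.F := by
    intro z hz hzc hzd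
    have h1 := B.fixedBy_eq h hkm (x := g⁻¹ * z * g) (by simpa using orderOf_conj_two g⁻¹ hz)
      (by rw [mul_smul, mul_smul, hga, hzc, ← hga, inv_smul_smul])
      (by rw [mul_smul, mul_smul, hgb, hzd, ← hgb, inv_smul_smul])
    rw [← h1]
    ext w
    constructor
    · intro hw
      refine ⟨g⁻¹ • w, ?_, smul_inv_smul g w⟩
      show (g⁻¹ * z * g) • g⁻¹ • w = g⁻¹ • w
      rw [mul_smul, mul_smul, smul_inv_smul, show z • w = w from hw]
    · rintro ⟨v, hv, rfl⟩
      have hv' : (g⁻¹ * z * g) • v = v := hv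
      rw [mul_smul, mul_smul, inv_smul_eq_iff] at hv'
      exact hv'
  rw [key x hx hxc hxd, key y hy hyc hyd]

end Base

namespace Hyp

variable (h : Hyp G Ω)
include h

/-- The hypotheses of the plane. -/
theorem plane (B : Base G Ω) (hn : Fintype.card Ω = 16) (he : B.e = 3) (hm : B.m = 4)
    (hk : B.k = 4) : Sixteen.Plane G Ω where
  faith := h.faith
  two := h.two
  stab := h.stab
  card := by rw [Nat.card_eq_fintype_card, hn]
  fixT t c d hcd ht htc htd := by rw [B.ncard_fixed_conj h (B.isConj_t h ht hcd htc htd), hm]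
  fixV t v c d hcd ht hv _ htc htd hvc hvd :=
    B.fixedBy_eq_pair h (by rw [hk, hm]) ht hv hcd htc htd hvc hvd
  swap c d hcd := by
    rcases B.swap_cases h with ⟨u, hD, hu⟩ | ⟨-, -, he6⟩
    swap
    · omega
    rcases hu with ⟨e1, -⟩ | ⟨-, hnu, htu⟩ | ⟨e4, -⟩
    · omega
    swap
    · omega
    have hfpf : ∀ x : G, orderOf x = 2 → ¬ IsConj B.t x → x • B.a ≠ B.a → ∀ y : Ω, x • y ≠ y := by
      intro x hx hnx _ y hy
      have hev := even_moved (F := Ω) (x := x) (mul_self_of_order_two hx)
      have hpos : 0 < Nat.card (fixedBy Ω x) := by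
        rw [Nat.card_pos_iff]
        exact ⟨⟨⟨y, hy⟩⟩, inferInstance⟩
      have hle : Nat.card (fixedBy Ω x) ≤ Fintype.card Ω := by
        rw [← Nat.card_eq_fintype_card]; exact Finite.card_subtype_le _
      have h2 : 1 < Nat.card (fixedBy Ω x) := by
        obtain ⟨r, hr⟩ := hev
        omega
      haveI : Nontrivial (fixedBy Ω x) := Finite.one_lt_card_iff_nontrivial.1 h2
      obtain ⟨p, q, hpq⟩ := exists_pair_ne (fixedBy Ω x)
      exact hnx (B.isConj_t h hx (fun e => hpq (Subtype.ext e)) p.2 q.2)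
    have hne : u • B.a ≠ B.a := by rw [hD.swap.2.1]; exact B.hab.symm
    have hufix := hfpf u hD.swap.1 hnu hne
    obtain ⟨g, hga, hgb⟩ := exists_smul_pair h.two B.hab hcd
    refine ⟨g * u * g⁻¹, orderOf_conj_two g hD.swap.1, ?_, fun x hx => ?_, ?_⟩
    · rw [mul_smul, mul_smul, ← hga, inv_smul_smul, hD.swap.2.1, hgb]
    · rw [mul_smul, mul_smul] at hx
      exact hufix (g⁻¹ • x) (eq_inv_smul_iff.2 hx)
    intro u' hu' huc hufp
    set x := g⁻¹ * u' * g with hx
    have hx2 : orderOf x = 2 := by simpa [hx] using orderOf_conj_two g⁻¹ hu'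
    have hxa : x • B.a = B.b := by
      rw [hx, mul_smul, mul_smul, hga, huc, ← hgb, inv_smul_smul]
    have hxb : x • B.b = B.a := by
      rw [← hxa, ← mul_smul, mul_self_of_order_two hx2, one_smul]
    rcases hD.others x ⟨hx2, hxa, hxb⟩ with r | r
    · rw [← r, hx]; group
    exfalso
    have hn4 := B.ncard_fixed_conj h (htu.trans r)
    obtain ⟨y, hy⟩ := Set.nonempty_of_ncard_ne_zero (by omega : (fixedBy Ω x).ncard ≠ 0)
    have hy' : x • y = y := hy
    rw [hx, mul_smul, mul_smul, inv_smul_eq_iff] at hy'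
    exact hufp _ hy'

/-- **Degree sixteen.** -/
theorem sixteen (B : Base G Ω) (hn : Fintype.card Ω = 16) (he : B.e = 3) (hm : B.m = 4)
    (hk : B.k = 4) : ∃ (F : Type) (_ : Field F) (_ : Fintype F), Fintype.card F = 4 ∧
      Nonempty (G ≃* ((Fin 2 → F) ≃ᵃ[F] (Fin 2 → F))) := by
  classical
  refine (h.plane B hn he hm hk).affine (by rw [h.card_group B.hab, hn]) fun a => ?_
  obtain ⟨b, hb⟩ : ∃ b : Ω, b ≠ a := Fintype.exists_ne_of_one_lt_card (by omega) a
  rw [h.card_stab hb.symm, hn]

end Hyp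

end CfsgLib.Perm.TwoPointFour
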