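import Cfsg.Agent.Lib.Perm.TwoPointFour.Setup
import Mathlib.GroupTheory.GroupAction.ConjAct

/-!
The involutions exchanging two points: the two possible set stabilisers and the counting equation.
-/

set_option autoImplicit false
set_option linter.unusedSectionVars false

namespace CfsgLib.Perm.TwoPointFour

open MulAction
open CfsgLib.Perm.TwoPointFive (mul_self_of_order_two ne_one_of_order_two order_two inv_eq_self
  orderOf_conj_two)

variable {G Ω : Type*} [Group G] [MulAction G Ω]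

namespace Base

variable (h : Hyp G Ω) (B : Base G Ω)

/-- An involution exchanging the two points. -/
def IsSwap (x : G) : Prop := orderOf x = 2 ∧ x • B.a = B.b ∧ x • B.b = B.a

/-- The number of them conjugate to `t`. -/
noncomputable def e : ℕ := Nat.card {x : G // B.IsSwap x ∧ IsConj B.t x}

/-- The set stabiliser is a direct product with `⟨u⟩`. -/
structure Direct (u : G) : Prop where
  swap : B.IsSwap u
  central : ∀ g : G, g • B.a = B.a → g • B.b = B.b → Commute u g
  others : ∀ x : G, B.IsSwap x → x = u ∨ IsConj (B.t * u) x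

/-- The set stabiliser is a symmetric group. -/
structure Outer (s : G) : Prop where
  swap : B.IsSwap s
  comm : Commute s B.t
  moves : s * B.v * s⁻¹ = B.t * B.v
  all : ∀ x : G, B.IsSwap x → IsConj B.t x

/-- Change of the two points inside the fixed points of the four group. -/
def withPair {c d : Ω} (hc : c ∈ B.FV) (hd : d ∈ B.FV) (hcd : c ≠ d) : Base G Ω :=
  { B with a := c, b := d, hab := hcd, hta := hc.1, htb := hd.1, hva := hc.2, hvb := hd.2 }

theorem withPair_a {c d : Ω} (hc : c ∈ B.FV) (hd : d ∈ B.FV) (hcd : c ≠ d) :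
    (B.withPair hc hd hcd).a = c := rfl

theorem withPair_b {c d : Ω} (hc : c ∈ B.FV) (hd : d ∈ B.FV) (hcd : c ≠ d) :
    (B.withPair hc hd hcd).b = d := rfl

include h

theorem m_lt [Fintype Ω] : B.m < Fintype.card Ω := by
  rw [← Nat.card_eq_fintype_card, ← Set.ncard_univ]
  refine Set.ncard_lt_ncard ((Set.subset_univ _).ssubset_of_ne fun e => ?_) (Set.toFinite _)
  exact ne_one_of_order_two B.ht (h.eq_one_of_fix fun x => (show x ∈ B.F by rw [e]; trivial))

theorem ncard_fixed_conj {x : G} (hx : IsConj B.t x) : (fixedBy Ω x).ncard = B.m := by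
  obtain ⟨g, rfl⟩ := isConj_iff.1 hx
  have : fixedBy Ω (g * B.t * g⁻¹) = (fun c => g • c) '' B.F := by
    ext c
    constructor
    · intro hc
      refine ⟨g⁻¹ • c, ?_, smul_inv_smul g c⟩
      have hc' : g • B.t • g⁻¹ • c = c := by rw [← mul_smul, ← mul_smul]; exact hc
      show B.t • g⁻¹ • c = g⁻¹ • c
      exact eq_inv_smul_iff.2 hc'
    · rintro ⟨d, hd, rfl⟩
      show (g * B.t * g⁻¹) • g • d = g • d
      rw [mul_smul, mul_smul, inv_smul_smul, show B.t • d = d from hd]
  rw [this, Set.ncard_image_of_injective _ (MulAction.injective g)]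
  rfl

theorem card_swap_pair [Finite G] {c d : Ω} (hcd : c ≠ d) :
    Nat.card {x : G // orderOf x = 2 ∧ IsConj B.t x ∧ x • c = d ∧ x • d = c} = B.e := by
  obtain ⟨g, hgc, hgd⟩ := exists_smul_pair h.two B.hab hcd
  refine (Nat.card_congr ?_).symm
  refine (MulAut.conj g).toEquiv.subtypeEquiv fun x => ?_
  show B.IsSwap x ∧ IsConj B.t x ↔ orderOf (g * x * g⁻¹) = 2 ∧ IsConj B.t (g * x * g⁻¹) ∧
    (g * x * g⁻¹) • c = d ∧ (g * x * g⁻¹) • d = c
  have ho : orderOf (g * x * g⁻¹) = orderOf x :=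
    orderOf_injective (MulAut.conj g).toMonoidHom (MulAut.conj g).injective x
  have hcj : IsConj B.t (g * x * g⁻¹) ↔ IsConj B.t x :=
    ⟨fun e => e.trans (isConj_iff.2 ⟨g, rfl⟩ : IsConj x (g * x * g⁻¹)).symm,
      fun e => e.trans (isConj_iff.2 ⟨g, rfl⟩)⟩
  have h1 : (g * x * g⁻¹) • c = d ↔ x • B.a = B.b := by
    rw [mul_smul, mul_smul, ← hgc, inv_smul_smul, ← hgd, smul_left_cancel_iff]
  have h2 : (g * x * g⁻¹) • d = c ↔ x • B.b = B.a := by
    rw [mul_smul, mul_smul, ← hgd, inv_smul_smul, ← hgc, smul_left_cancel_iff]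
  rw [ho, hcj, h1, h2, IsSwap]
  tauto

/-- The counting equation. -/
theorem count [Finite G] [Fintype Ω] :
    3 * (Fintype.card Ω - B.m) = B.e * (B.m * (B.m - 1)) := by
  classical
  haveI := Fintype.ofFinite G
  set n := Fintype.card Ω with hn
  set cls : Finset G := Finset.univ.filter fun x => IsConj B.t x with hcls
  have hord : ∀ x ∈ cls, orderOf x = 2 := fun x hx => by
    obtain ⟨g, rfl⟩ := isConj_iff.1 (Finset.mem_filter.1 hx).2
    exact orderOf_conj_two g B.ht
  have hclscard : cls.card * (B.m * (B.m - 1) * 4) = n * (n - 1) * 12 := by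
    rw [← B.card_cent h, hn, ← h.card_group B.hab]
    have h1 := (stabilizer (ConjAct G) B.t).index_mul_card
    rw [index_stabilizer, ConjAct.stabilizer_eq_centralizer] at h1
    rw [← h1.trans (Nat.card_congr ConjAct.ofConjAct.toEquiv : Nat.card (ConjAct G) = Nat.card G)]
    congr 1
    rw [show orbit (ConjAct G) B.t = ↑cls by
      ext x
      rw [ConjAct.mem_orbit_conjAct, hcls, Finset.coe_filter, Set.mem_ofPred_eq]
      exact ⟨fun e => ⟨Finset.mem_univ _, IsConj.symm e⟩, fun e => IsConj.symm e.2⟩, Set.ncard_coe_finset]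
  set T : Finset (G × Ω) := (cls ×ˢ Finset.univ).filter fun p => p.1 • p.2 ≠ p.2 with hT
  have hA : T.card = cls.card * (n - B.m) := by
    rw [Finset.card_eq_sum_card_fiberwise (f := Prod.fst) (t := cls)
      (fun p hp => (Finset.mem_product.1 (Finset.mem_filter.1 hp).1).1),
      Finset.sum_const_nat (m := n - B.m) fun x hx => ?_]
    have hfix : (Finset.univ.filter fun c : Ω => x • c = c).card = B.m := by
      rw [← B.ncard_fixed_conj h (Finset.mem_filter.1 hx).2, ← Set.ncard_coe_finset]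
      congr 1
      ext c; simp
    rw [← hfix, hn, ← Finset.card_univ, ← Finset.card_sdiff_of_subset (Finset.subset_univ _)]
    refine Finset.card_bij (fun p _ => p.2) (fun p hp => ?_) (fun p hp q hq e => ?_) (fun c hc => ?_)
    · obtain ⟨hpT, rfl⟩ := Finset.mem_filter.1 hp
      simpa using (Finset.mem_filter.1 hpT).2
    · exact Prod.ext ((Finset.mem_filter.1 hp).2.trans (Finset.mem_filter.1 hq).2.symm) e
    · refine ⟨(x, c), ?_, rfl⟩
      simp only [Finset.mem_sdiff, Finset.mem_filter, Finset.mem_univ, true_and] at hc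
      simp [hT, hx, hc]
  have hBc : T.card = B.e * (n * (n - 1)) := by
    rw [Finset.card_eq_sum_card_fiberwise (f := fun p => (p.2, p.1 • p.2))
      (t := (Finset.univ : Finset Ω).offDiag) (fun p hp => by
        simpa [Finset.mem_offDiag] using (Finset.mem_filter.1 hp).2.symm),
      Finset.sum_const_nat (m := B.e) fun p hp => ?_]
    · rw [Finset.offDiag_card, Finset.card_univ, ← hn, mul_comm B.e, Nat.mul_sub, mul_one]
    obtain ⟨c, d⟩ := p
    have hcd : c ≠ d := (Finset.mem_offDiag.1 hp).2.2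
    rw [← B.card_swap_pair h hcd, ← Nat.card_eq_finsetCard]
    refine Nat.card_congr
      { toFun := fun q => ⟨q.1.1, ?_⟩, invFun := fun x => ⟨(x.1, c), ?_⟩, left_inv := ?_, right_inv := ?_ }
    · obtain ⟨⟨x, c'⟩, hq⟩ := q
      obtain ⟨hq1, hq2⟩ := Finset.mem_filter.1 hq
      have hcc : c' = c := (Prod.ext_iff.1 hq2).1
      have hxd : x • c = d := by rw [← hcc]; exact (Prod.ext_iff.1 hq2).2
      have hx : x ∈ cls := (Finset.mem_product.1 (Finset.mem_filter.1 hq1).1).1
      refine ⟨hord x hx, (Finset.mem_filter.1 hx).2, hxd, ?_⟩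
      show x • d = c
      rw [← hxd, ← mul_smul, mul_self_of_order_two (hord x hx), one_smul]
    · obtain ⟨x, -, hx, hxc, -⟩ := x
      refine Finset.mem_filter.2 ⟨?_, Prod.ext rfl hxc⟩
      exact Finset.mem_filter.2 ⟨Finset.mem_product.2 ⟨Finset.mem_filter.2 ⟨Finset.mem_univ _, hx⟩,
        Finset.mem_univ _⟩, fun e => hcd (by rw [← hxc]; exact e.symm)⟩
    · rintro ⟨⟨x, c'⟩, hq⟩
      obtain ⟨-, hq2⟩ := Finset.mem_filter.1 hq
      obtain ⟨rfl, -⟩ := Prod.ext_iff.1 hq2
      rfl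
    · intro x; rfl
  have hne : n * (n - 1) ≠ 0 := by
    have := B.m_lt h
    have := B.two_le_m
    exact Nat.mul_ne_zero (by omega) (by omega)
  have h2 := B.two_le_m
  refine Nat.eq_of_mul_eq_mul_right (Nat.pos_of_ne_zero hne) ?_
  calc 3 * (n - B.m) * (n * (n - 1)) = (n * (n - 1) * 12) * (n - B.m) / 4 := by
        rw [show n * (n - 1) * 12 * (n - B.m) = 3 * (n - B.m) * (n * (n - 1)) * 4 by ring,
          Nat.mul_div_cancel _ (by norm_num)]
    _ = B.m * (B.m - 1) * (cls.card * (n - B.m)) := by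
        rw [← hclscard, show cls.card * (B.m * (B.m - 1) * 4) * (n - B.m) =
          B.m * (B.m - 1) * (cls.card * (n - B.m)) * 4 by ring, Nat.mul_div_cancel _ (by norm_num)]
    _ = B.e * (B.m * (B.m - 1)) * (n * (n - 1)) := by rw [← hA, hBc]; ring

theorem e_ne_zero [Finite G] [Fintype Ω] : B.e ≠ 0 := fun e0 => by
  have h1 := B.count h
  rw [e0, zero_mul] at h1
  have := B.m_lt h
  omega

theorem exists_conj_swap [Finite G] [Fintype Ω] : ∃ x, B.IsSwap x ∧ IsConj B.t x := by
  obtain ⟨⟨x, hx⟩⟩ := (Nat.card_ne_zero.1 (B.e_ne_zero h)).1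
  exact ⟨x, hx⟩

theorem fix_of_mem {g : G} (hg : g ∈ B.H) : g • B.a = B.a ∧ g • B.b = B.b := hg

/-- The two set stabilisers, with the values of `e`. -/
theorem swap_cases [Finite G] [Fintype Ω] :
    (∃ u, B.Direct u ∧ ((B.e = 1 ∧ IsConj B.t u ∧ ¬ IsConj B.t (B.t * u)) ∨
      (B.e = 3 ∧ ¬ IsConj B.t u ∧ IsConj B.t (B.t * u)) ∨
      (B.e = 4 ∧ ∀ x, B.IsSwap x → IsConj B.t x))) ∨
    (∃ s, B.Outer s ∧ B.e = 6) := by
  classical
  obtain ⟨eH⟩ := h.stab B.a B.b B.hab
  obtain ⟨g₀, hg₀a, hg₀b⟩ := exists_smul_pair h.two B.hab B.hab.symm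
  obtain ⟨q, hqa, hqb, hq⟩ := h.isConj_pair B.hab (orderOf_conj_two g₀ B.ht) B.ht
    (by rw [mul_smul, mul_smul, inv_smul_eq_iff.2 hg₀b.symm, B.htb, hg₀b])
    (by rw [mul_smul, mul_smul, inv_smul_eq_iff.2 hg₀a.symm, B.hta, hg₀a]) B.hta B.htb
  obtain ⟨g, hga, hgb, hgt⟩ : ∃ g : G, g • B.a = B.b ∧ g • B.b = B.a ∧ Commute g B.t :=
    ⟨q * g₀, by rw [mul_smul, hg₀a, hqb], by rw [mul_smul, hg₀b, hqa],
      mul_inv_eq_iff_eq_mul.1 ((show q * g₀ * B.t * (q * g₀)⁻¹ = q * (g₀ * B.t * g₀⁻¹) * q⁻¹ by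
        group).trans hq)⟩
  -- conjugation by an element exchanging the two points
  have hnorm : ∀ {g : G}, g • B.a = B.b → g • B.b = B.a → ∀ x : ↥B.H, g * x.1 * g⁻¹ ∈ B.H := by
    intro g hga hgb x
    refine ⟨?_, ?_⟩
    · show (g * x.1 * g⁻¹) • B.a = B.a
      rw [mul_smul, mul_smul, inv_smul_eq_iff.2 hgb.symm, (B.fix_of_mem h x.2).2, hgb]
    · show (g * x.1 * g⁻¹) • B.b = B.b
      rw [mul_smul, mul_smul, inv_smul_eq_iff.2 hga.symm, (B.fix_of_mem h x.2).1, hga]
  have hnorm' : ∀ {g : G}, g • B.a = B.b → g • B.b = B.a → ∀ x : ↥B.H, g⁻¹ * x.1 * g ∈ B.H := by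
    intro g hga hgb x
    simpa using hnorm (g := g⁻¹) (inv_smul_eq_iff.2 hgb.symm) (inv_smul_eq_iff.2 hga.symm) x
  let σ : ∀ g : G, g • B.a = B.b → g • B.b = B.a → (↥B.H ≃* ↥B.H) := fun g h1 h2 =>
    { toFun := fun x => ⟨g * x.1 * g⁻¹, hnorm h1 h2 x⟩
      invFun := fun x => ⟨g⁻¹ * x.1 * g, hnorm' h1 h2 x⟩
      left_inv := fun x => Subtype.ext (by simp [mul_assoc])
      right_inv := fun x => Subtype.ext (by simp [mul_assoc])
      map_mul' := fun x y => Subtype.ext (by simp [mul_assoc]) }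
  let tH : ↥B.H := ⟨B.t, B.hta, B.htb⟩
  let vH : ↥B.H := ⟨B.v, B.hva, B.hvb⟩
  have ht2 : tH * tH = 1 := Subtype.ext (mul_self_of_order_two B.ht)
  have hv2 : vH * vH = 1 := Subtype.ext (mul_self_of_order_two B.hv)
  have ht1 : tH ≠ 1 := fun e => ne_one_of_order_two B.ht (congrArg Subtype.val e)
  have hv1 : vH ≠ 1 := fun e => ne_one_of_order_two B.hv (congrArg Subtype.val e)
  have htv : tH ≠ vH := fun e => B.hne (congrArg Subtype.val e)
  have hc : tH * vH = vH * tH := Subtype.ext B.hcomm.eq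
  -- a swapper differs from a given one by an element of the pair stabiliser
  have hdiff : ∀ {g x : G}, g • B.a = B.b → g • B.b = B.a → x • B.a = B.b → x • B.b = B.a →
      g⁻¹ * x ∈ B.H := by
    intro g x h1 h2 h3 h4
    exact ⟨show (g⁻¹ * x) • B.a = B.a by rw [mul_smul, h3, inv_smul_eq_iff, h1],
      show (g⁻¹ * x) • B.b = B.b by rw [mul_smul, h4, inv_smul_eq_iff, h2]⟩
  rcases B.conj_v h hgt (hga ▸ B.hbV) (hgb ▸ B.haV) with hgv | hgv
  · left
    obtain ⟨w, -, hσ⟩ := aut_fix_iso eH (σ g hga hgb) ht2 ht1 hv2 hv1 htv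
      (Subtype.ext (mul_inv_eq_iff_eq_mul.2 hgt.eq)) (Subtype.ext hgv)
    set u := w.1⁻¹ * g with hu
    have hua : u • B.a = B.b := by rw [hu, mul_smul, hga, inv_smul_eq_iff, (B.fix_of_mem h w.2).2]
    have hub : u • B.b = B.a := by rw [hu, mul_smul, hgb, inv_smul_eq_iff, (B.fix_of_mem h w.2).1]
    have hcen : ∀ x : G, x • B.a = B.a → x • B.b = B.b → Commute u x := by
      intro x hxa hxb
      have h1 : g * x * g⁻¹ = w.1 * x * w.1⁻¹ := congrArg Subtype.val (hσ ⟨x, hxa, hxb⟩)
      show u * x = x * u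
      calc u * x = w.1⁻¹ * (g * x * g⁻¹) * g := by rw [hu]; group
        _ = x * u := by rw [h1, hu]; group
    have hzH : u * u ∈ B.H := ⟨show (u * u) • B.a = B.a by rw [mul_smul, hua, hub],
      show (u * u) • B.b = B.b by rw [mul_smul, hub, hua]⟩
    have huu : u * u = 1 := by
      by_contra hne
      have hcomm : ∀ x : ↥B.H, Commute (⟨u * u, hzH⟩ : ↥B.H) x := fun x =>
        Subtype.ext ((hcen x.1 x.2.1 x.2.2).mul_left (hcen x.1 x.2.1 x.2.2)).eq
      have hz1 : (⟨u * u, hzH⟩ : ↥B.H) ≠ 1 := fun e => hne (congrArg Subtype.val e)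
      rcases centralizer_cases eH ht2 ht1 hv2 hv1 htv (hcomm tH).eq with r | r | r | r
      · exact hz1 r
      all_goals
        have hz2 : (⟨u * u, hzH⟩ : ↥B.H) * ⟨u * u, hzH⟩ = 1 := by
          rw [r]
          first
            | exact ht2
            | exact hv2
            | exact (Commute.mul_mul_mul_comm hc.symm tH vH).trans (by
                erw [ht2, hv2, mul_one])
        have hall : ∀ y : ↥B.H, y * y = 1 → y ≠ 1 → y = ⟨u * u, hzH⟩ := fun y hy hy1 => by
          obtain ⟨p, hp⟩ := isConj_iff.1 (isConj_invol eH hz2 hz1 hy hy1)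
          exact hp.symm.trans (mul_inv_eq_iff_eq_mul.2 (hcomm p).eq.symm)
        exact htv ((hall tH ht2 ht1).trans (hall vH hv2 hv1).symm)
    have hus : B.IsSwap u := ⟨order_two huu fun e => B.hab (by rw [← hua, e, one_smul]), hua, hub⟩
    have hother : ∀ x : G, B.IsSwap x → x = u ∨ IsConj (B.t * u) x := by
      rintro x ⟨hxo, hxa, hxb⟩
      have hz := hdiff hua hub hxa hxb
      have hcz : Commute u (u⁻¹ * x) := hcen _ hz.1 hz.2
      by_cases hx1 : (⟨u⁻¹ * x, hz⟩ : ↥B.H) = 1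
      · left; exact (inv_mul_eq_one.1 (congrArg Subtype.val hx1)).symm
      right
      have hz2 : (⟨u⁻¹ * x, hz⟩ : ↥B.H) * ⟨u⁻¹ * x, hz⟩ = 1 := Subtype.ext (by
        show u⁻¹ * x * (u⁻¹ * x) = 1
        calc u⁻¹ * x * (u⁻¹ * x) = u⁻¹ * ((u⁻¹ * x) * u) * (u⁻¹ * x) * (u⁻¹ * u⁻¹)⁻¹ * (u⁻¹ * u⁻¹) := by
              rw [← hcz.eq]; group
          _ = u⁻¹ * (u * (u⁻¹ * x)) * (u⁻¹ * x) := by rw [← hcz.eq]; group
          _ = 1 := by
              rw [inv_eq_self hus.1]
              have e1 : Commute u x := by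
                have := (Commute.refl u).mul_right hcz
                rwa [mul_inv_cancel_left] at this
              calc u * (u * (u * x)) * (u * x) = (u * u) * (u * x) * (u * x) := by group
                _ = u * (x * u) * x := by rw [huu]; group
                _ = (u * u) * (x * x) := by rw [← e1.eq]; group
                _ = 1 := by rw [huu, mul_self_of_order_two hxo, one_mul])
      obtain ⟨p, hp⟩ := isConj_iff.1 (isConj_invol eH ht2 ht1 hz2 hx1)
      refine isConj_iff.2 ⟨p.1, ?_⟩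
      have hp' : p.1 * B.t * p.1⁻¹ = u⁻¹ * x := congrArg Subtype.val hp
      calc p.1 * (B.t * u) * p.1⁻¹ = p.1 * (u * B.t) * p.1⁻¹ := by rw [(hcen B.t B.hta B.htb).eq]
        _ = (p.1 * u) * B.t * p.1⁻¹ := by group
        _ = u * (p.1 * B.t * p.1⁻¹) := by rw [← (hcen p.1 p.2.1 p.2.2).eq]; group
        _ = x := by rw [hp', mul_inv_cancel_left]
    have hD : B.Direct u := ⟨hus, hcen, hother⟩
    have h4 : Nat.card {x : G // B.IsSwap x} = 4 := by
      rw [← card_sq_one_iso eH]
      refine Nat.card_congr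
        { toFun := fun x => ⟨⟨u⁻¹ * x.1, hdiff hua hub x.2.2.1 x.2.2.2⟩, ?_⟩
          invFun := fun z => ⟨u * z.1.1, ?_⟩
          left_inv := fun x => Subtype.ext (mul_inv_cancel_left u x.1)
          right_inv := fun z => Subtype.ext (Subtype.ext (inv_mul_cancel_left u z.1.1)) }
      · apply Subtype.ext
        show u⁻¹ * x.1 * (u⁻¹ * x.1) = 1
        have hz := hdiff hua hub x.2.2.1 x.2.2.2
        have e1 : Commute u x.1 := by
          have := (Commute.refl u).mul_right (hcen _ hz.1 hz.2)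
          rwa [mul_inv_cancel_left] at this
        rw [(e1.inv_left.symm).mul_mul_mul_comm, mul_self_of_order_two x.2.1, mul_one, inv_eq_self hus.1,
          huu]
      · have e1 : Commute u z.1.1 := hcen _ z.1.2.1 z.1.2.2
        have hzz : z.1.1 * z.1.1 = 1 := congrArg Subtype.val z.2
        have ha' : (u * z.1.1) • B.a = B.b := by rw [mul_smul, (B.fix_of_mem h z.1.2).1, hua]
        refine ⟨order_two ?_ fun e => B.hab (by rw [← ha', e, one_smul]), ha',
          by rw [mul_smul, (B.fix_of_mem h z.1.2).2, hub]⟩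
        rw [(e1.symm).mul_mul_mul_comm, huu, hzz, one_mul]
    refine ⟨u, hD, ?_⟩
    by_cases hcu : IsConj B.t u <;> by_cases hct : IsConj B.t (B.t * u)
    · right; right
      have hall : ∀ x, B.IsSwap x → IsConj B.t x := fun x hx => by
        rcases hother x hx with rfl | r
        · exact hcu
        · exact hct.trans r
      refine ⟨?_, hall⟩
      rw [e, ← h4]
      exact Nat.card_congr (Equiv.subtypeEquivRight fun x => ⟨fun hx => hx.1, fun hx => ⟨hx, hall x hx⟩⟩)
    · left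
      refine ⟨?_, hcu, hct⟩
      rw [e, Nat.card_eq_one_iff_exists]
      exact ⟨⟨u, hus, hcu⟩, fun ⟨x, hx, hxc⟩ => Subtype.ext ((hother x hx).resolve_right
        fun r => hct (hxc.trans r.symm))⟩
    · right; left
      refine ⟨?_, hcu, hct⟩
      haveI : Finite {x : G // B.IsSwap x} := inferInstance
      have hset : {x : G | B.IsSwap x ∧ IsConj B.t x} = {x : G | B.IsSwap x} \ {u} := by
        ext x
        simp only [Set.mem_ofPred_eq, Set.mem_sdiff, Set.mem_singleton_iff]
        exact ⟨fun hx => ⟨hx.1, fun e => hcu (e ▸ hx.2)⟩,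
          fun hx => ⟨hx.1, hct.trans ((hother x hx.1).resolve_left hx.2)⟩⟩
      rw [e, show Nat.card {x : G // B.IsSwap x ∧ IsConj B.t x} =
        {x : G | B.IsSwap x ∧ IsConj B.t x}.ncard from Nat.card_coe_set_eq _, hset,
        Set.ncard_sdiff_singleton_of_mem (by exact hus), show {x : G | B.IsSwap x}.ncard = 4 from
          (Nat.card_coe_set_eq _).symm.trans h4]
    · exfalso
      obtain ⟨x, hx, hxc⟩ := B.exists_conj_swap h
      rcases hother x hx with rfl | r
      · exact hcu hxc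
      · exact hct (hxc.trans r.symm)
  · right
    have hgg : g * g = 1 ∨ g * g = B.t := by
      rcases B.cases_of_fix h B.hab B.hta B.htb B.hva B.hvb (g := g * g)
        (by rw [mul_smul, hga, hgb]) (by rw [mul_smul, hgb, hga]) (hgt.mul_left hgt) with r | r | r | r
      · exact Or.inl r
      · exact Or.inr r
      · exfalso
        have : g * B.v * g⁻¹ = B.v := by rw [← r]; group
        rw [hgv] at this
        exact ne_one_of_order_two B.ht (mul_eq_right.1 this)
      · exfalso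
        have e1 : g * (B.t * B.v) * g⁻¹ = B.t * B.v := by rw [← r]; group
        have e2 : g * B.t * g⁻¹ = B.t := mul_inv_eq_iff_eq_mul.2 hgt.eq
        rw [← conj_mul, e2, hgv] at e1
        exact ne_one_of_order_two B.ht (mul_eq_right.1 (mul_left_cancel e1))
    obtain ⟨s, hss, hsa, hsb, hst, hsv⟩ : ∃ s : G, s * s = 1 ∧ s • B.a = B.b ∧ s • B.b = B.a ∧
        Commute s B.t ∧ s * B.v * s⁻¹ = B.t * B.v := by
      rcases hgg with r | r
      · exact ⟨g, r, hga, hgb, hgt, hgv⟩
      refine ⟨g * B.v, ?_, by rw [mul_smul, B.hva, hga], by rw [mul_smul, B.hvb, hgb],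
        hgt.mul_left B.hcomm.symm, by
          rw [mul_inv_rev, inv_eq_self B.hv,
            show g * B.v * B.v * (B.v * g⁻¹) = g * (B.v * B.v) * B.v * g⁻¹ by group,
            mul_self_of_order_two B.hv, mul_one, hgv]⟩
      have e2 : g * B.t * g⁻¹ = B.t := mul_inv_eq_iff_eq_mul.2 hgt.eq
      have e3 : g * (B.t * B.v) * g⁻¹ = B.v := by
        rw [← conj_mul, e2, hgv, ← mul_assoc, mul_self_of_order_two B.ht, one_mul]
      calc g * B.v * (g * B.v) = g * (g * (B.t * B.v) * g⁻¹) * (g * B.v) := by rw [e3]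
        _ = (g * g) * B.t * (B.v * B.v) := by group
        _ = 1 := by rw [r, mul_self_of_order_two B.ht, mul_self_of_order_two B.hv, one_mul]
    have hs1 : s ≠ 1 := fun e => B.hab (by rw [← hsa, e, one_smul])
    have hso := order_two hss hs1
    have hsi := inv_eq_self hso
    obtain ⟨h6, hone⟩ := aut_swap_iso eH (σ s hsa hsb) ht2 ht1 hv2 hv1 htv
      (Subtype.ext (mul_inv_eq_iff_eq_mul.2 hst.eq)) (Subtype.ext hsv)
      (fun z => Subtype.ext (by
        show s * (s * z.1 * s⁻¹) * s⁻¹ = z.1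
        rw [hsi, show s * (s * z.1 * s) * s = (s * s) * z.1 * (s * s) by group, hss, one_mul, mul_one]))
    have hkey : ∀ (z : ↥B.H), (s * z.1) * (s * z.1) = 1 ↔ σ s hsa hsb z = z⁻¹ := fun z => by
      rw [Subtype.ext_iff, Subgroup.coe_inv]
      show _ ↔ s * z.1 * s⁻¹ = z.1⁻¹
      rw [hsi, ← mul_eq_one_iff_eq_inv]
      constructor <;> intro e <;> simpa [mul_assoc] using e
    have hconj : ∀ x, B.IsSwap x → IsConj s x := by
      rintro x ⟨hxo, hxa, hxb⟩
      have hz := hdiff hsa hsb hxa hxb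
      obtain ⟨c, hc⟩ := hone ⟨s⁻¹ * x, hz⟩ ((hkey ⟨s⁻¹ * x, hz⟩).1 (by
        simp only [mul_inv_cancel_left, mul_self_of_order_two hxo]))
      refine isConj_iff.2 ⟨c.1, ?_⟩
      have hc' : s * c.1 * s⁻¹ * c.1⁻¹ = s⁻¹ * x := congrArg Subtype.val hc
      calc c.1 * s * c.1⁻¹ = s * (s * c.1 * s⁻¹ * c.1⁻¹) := by
            rw [hsi, show s * (s * c.1 * s * c.1⁻¹) = (s * s) * (c.1 * s * c.1⁻¹) by group, hss,
              one_mul]
        _ = x := by rw [hc', mul_inv_cancel_left]
    obtain ⟨x₀, hx₀, hx₀c⟩ := B.exists_conj_swap h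
    have hall : ∀ x, B.IsSwap x → IsConj B.t x := fun x hx =>
      (hx₀c.trans (hconj x₀ hx₀).symm).trans (hconj x hx)
    refine ⟨s, ⟨⟨hso, hsa, hsb⟩, hst, hsv, hall⟩, ?_⟩
    rw [e, ← h6]
    refine Nat.card_congr
      { toFun := fun x => ⟨⟨s⁻¹ * x.1, hdiff hsa hsb x.2.1.2.1 x.2.1.2.2⟩, (hkey _).1 (by
            simp only [mul_inv_cancel_left, mul_self_of_order_two x.2.1.1])⟩
        invFun := fun z => ⟨s * z.1.1, ?_⟩
        left_inv := fun x => Subtype.ext (mul_inv_cancel_left s x.1)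
        right_inv := fun z => Subtype.ext (Subtype.ext (inv_mul_cancel_left s z.1.1)) }
    have ha' : (s * z.1.1) • B.a = B.b := by rw [mul_smul, (B.fix_of_mem h z.1.2).1, hsa]
    have hx : B.IsSwap (s * z.1.1) :=
      ⟨order_two ((hkey z.1).2 z.2) fun e => B.hab (by rw [← ha', e, one_smul]), ha',
        by rw [mul_smul, (B.fix_of_mem h z.1.2).2, hsb]⟩
    exact ⟨hx, hall _ hx⟩

end Base

end CfsgLib.Perm.TwoPointFour
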